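import Cfsg.Agent.Lib.Helper7.AutPSU.SemidirectU
import Cfsg.Agent.Lib.Helper7.AutPSU.SplitU
import Cfsg.Agent.Lib.Helper7.AutPSL.FiniteFieldAut
import Cfsg.Agent.Lib.Helper8.GrInv.Basic
import Mathlib

/-!
# Involutory graph automorphisms of `PSU_n(q)`: normal form, conjugacy, centraliser (helper8)

An involutory graph automorphism of `PSU_n(q)` is `DhU g * PhU τ` with `τ` the `q`-th power map and
`g` a unitary matrix with `gᵀ = ± g`; it is conjugate under the inner-diagonal group to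
`DhU g' * PhU τ` iff `h g hᵀ` is proportional to `g'` for a unitary `h`.
-/

set_option autoImplicit false
set_option linter.unusedSectionVars false

namespace Cfsg.Agent.Lib.Helper8.UGr

open Matrix Cfsg Cfsg.Agent.Lib.H7AutPSU Cfsg.Agent.Lib.H7AutPSL Cfsg.Agent.Lib.H7AutPSp

universe u

variable {n : ℕ} {F : Type u} [Field F] {q : ℕ}

/-- the `q`-th power map applied to a unitary matrix is its inverse transpose -/
theorem GU_map (τ : RingAut F) (hτ : ∀ t, τ t = t ^ q) (g : ↥(Cfsg.GU n F q)) :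
    g.1.val.map τ = (g.1⁻¹.val)ᵀ := by
  have h := GU_mul_transpose τ hτ g
  have h1 : (g.1.val.map τ)ᵀ = g.1⁻¹.val := by
    calc (g.1.val.map τ)ᵀ = g.1⁻¹.val * (g.1.val * (g.1.val.map τ)ᵀ) := by
          rw [← Matrix.mul_assoc, ← Units.val_mul, inv_mul_cancel, Units.val_one, Matrix.one_mul]
      _ = g.1⁻¹.val := by rw [h, Matrix.mul_one]
  rw [← h1, Matrix.transpose_transpose]

theorem GU_inv_map (τ : RingAut F) (hτ : ∀ t, τ t = t ^ q) (g : ↥(Cfsg.GU n F q)) :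
    (g⁻¹).1.val.map τ = g.1.valᵀ := by
  rw [GU_map τ hτ g⁻¹]
  show (((g⁻¹).1)⁻¹).valᵀ = _
  have : ((g⁻¹).1)⁻¹ = g.1 := by
    show ((g.1)⁻¹)⁻¹ = g.1
    exact inv_inv _
  rw [this]

/-- the square of an element of the coset of a field automorphism -/
theorem graphU_sq (σ : RingAut F) (g : ↥(Cfsg.GU n F q)) :
    (DhU g * PhU σ : MulAut (PSUn n F q)) ^ 2 = DhU (g * gmapU σ g) * PhU (σ ^ 2) := by
  rw [pow_two, pow_two, map_mul, map_mul]
  calc (DhU g * PhU σ * (DhU g * PhU σ) : MulAut (PSUn n F q))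
      = DhU g * (PhU σ * DhU g) * PhU σ := by simp only [mul_assoc]
    _ = _ := by rw [PhU_DhU]; simp only [mul_assoc]

/-- conjugating by an inner-diagonal automorphism -/
theorem graphU_conj (τ : RingAut F) (g h : ↥(Cfsg.GU n F q)) :
    (DhU h * (DhU g * PhU τ) * (DhU h)⁻¹ : MulAut (PSUn n F q)) =
      DhU (h * g * gmapU τ h⁻¹) * PhU τ := by
  rw [← map_inv, map_mul, map_mul]
  calc (DhU h * (DhU g * PhU τ) * DhU h⁻¹ : MulAut (PSUn n F q))
      = DhU h * DhU g * (PhU τ * DhU h⁻¹) := by simp only [mul_assoc]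
    _ = _ := by rw [PhU_DhU]; simp only [mul_assoc]

theorem graphU_conj_val (τ : RingAut F) (hτ : ∀ t, τ t = t ^ q) (g h : ↥(Cfsg.GU n F q)) :
    (h * g * gmapU τ h⁻¹).1.val = h.1.val * g.1.val * h.1.valᵀ := by
  show h.1.val * g.1.val * (gmapU τ h⁻¹).1.val = _
  rw [gmapU_val, GU_inv_map τ hτ]

/-- the transpose of the inverse -/
theorem inv_transpose_mul (g : GL (Fin n) F) : (g⁻¹.val)ᵀ * g.valᵀ = 1 := by
  rw [← Matrix.transpose_mul, ← Units.val_mul, mul_inv_cancel, Units.val_one, Matrix.transpose_one]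

theorem transpose_mul_inv (g : GL (Fin n) F) : g.valᵀ * (g⁻¹.val)ᵀ = 1 := by
  rw [← Matrix.transpose_mul, ← Units.val_mul, inv_mul_cancel, Units.val_one, Matrix.transpose_one]

/-- the matrix `g τ(g)` of the square -/
theorem sq_val (τ : RingAut F) (hτ : ∀ t, τ t = t ^ q) (g : ↥(Cfsg.GU n F q)) :
    (g * gmapU τ g).1.val = g.1.val * (g.1⁻¹.val)ᵀ := by
  show g.1.val * (gmapU τ g).1.val = _
  rw [gmapU_val, GU_map τ hτ]

theorem sq_scalar_iff (hn : 1 ≤ n) (τ : RingAut F) (hτ : ∀ t, τ t = t ^ q)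
    (g : ↥(Cfsg.GU n F q)) :
    (∃ a : Fˣ, (g * gmapU τ g).1.val = (a : F) • (1 : Matrix (Fin n) (Fin n) F)) ↔
      (g.1.valᵀ = g.1.val ∨ g.1.valᵀ = -g.1.val) := by
  rw [sq_val τ hτ]
  constructor
  · rintro ⟨a, ha⟩
    have h1 : g.1.val = (a : F) • g.1.valᵀ := by
      have := congrArg (fun M => M * g.1.valᵀ) ha
      simp only [Matrix.mul_assoc, inv_transpose_mul, Matrix.mul_one, Matrix.smul_mul,
        Matrix.one_mul] at this
      exact this
    have h2 : g.1.valᵀ = (a : F) • g.1.val := by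
      have := congrArg Matrix.transpose h1
      rw [Matrix.transpose_smul, Matrix.transpose_transpose] at this
      exact this
    have h3 : ((a : F) * a - 1) • g.1.val = 0 := by
      rw [sub_smul, one_smul, ← smul_smul, ← h2, ← h1, sub_self]
    have h3' : ((a : F) * a - 1) • (1 : Matrix (Fin n) (Fin n) F) = 0 := by
      have hgg : g.1.val * g.1⁻¹.val = 1 := by
        rw [← Units.val_mul, mul_inv_cancel, Units.val_one]
      rw [← hgg, ← Matrix.smul_mul, h3, Matrix.zero_mul]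
    have h4 : (a : F) * a - 1 = 0 := by
      have := congrFun (congrFun h3' ⟨0, hn⟩) ⟨0, hn⟩
      rw [Matrix.smul_apply, Matrix.one_apply_eq, smul_eq_mul, mul_one, Matrix.zero_apply] at this
      exact this
    have h5 : ((a : F) - 1) * ((a : F) + 1) = 0 := by linear_combination h4
    rcases mul_eq_zero.1 h5 with h | h
    · left
      rw [h2, sub_eq_zero.1 h, one_smul]
    · right
      rw [h2, eq_neg_of_add_eq_zero_left h, neg_one_smul]
  · rintro (h | h)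
    · refine ⟨1, ?_⟩
      have : (g.1⁻¹.val)ᵀ = g.1⁻¹.val := by
        have h1 := inv_transpose_mul g.1
        rw [h] at h1
        calc (g.1⁻¹.val)ᵀ = (g.1⁻¹.val)ᵀ * (g.1.val * g.1⁻¹.val) := by
              rw [← Units.val_mul, mul_inv_cancel, Units.val_one, Matrix.mul_one]
          _ = g.1⁻¹.val := by rw [← Matrix.mul_assoc, h1, Matrix.one_mul]
      rw [this, ← Units.val_mul, mul_inv_cancel, Units.val_one, Units.val_one, one_smul]
    · refine ⟨-1, ?_⟩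
      have : (g.1⁻¹.val)ᵀ = -g.1⁻¹.val := by
        have h1 := inv_transpose_mul g.1
        rw [h, Matrix.mul_neg] at h1
        have h1' : (g.1⁻¹.val)ᵀ * g.1.val = -1 := by rw [← h1, neg_neg]
        calc (g.1⁻¹.val)ᵀ = (g.1⁻¹.val)ᵀ * (g.1.val * g.1⁻¹.val) := by
              rw [← Units.val_mul, mul_inv_cancel, Units.val_one, Matrix.mul_one]
          _ = -g.1⁻¹.val := by rw [← Matrix.mul_assoc, h1', Matrix.neg_mul, Matrix.one_mul]
      rw [this, Matrix.mul_neg, ← Units.val_mul, mul_inv_cancel, Units.val_one, Units.val_neg,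
        Units.val_one, neg_smul, one_smul]

/-! ### the Frobenius involution -/

section finite

variable [Fintype F]

theorem frob_sq (hF : Fintype.card F = q ^ 2) (τ : RingAut F) (hτ : ∀ t, τ t = t ^ q) :
    τ ^ 2 = 1 := by
  obtain ⟨τ', h1, h2, -⟩ := exists_frobAut hF
  have : τ = τ' := RingEquiv.ext (fun t => by rw [hτ, h1])
  rw [this, h2]

theorem frob_ne_one (hF : Fintype.card F = q ^ 2) (τ : RingAut F) (hτ : ∀ t, τ t = t ^ q) :
    τ ≠ 1 := by
  obtain ⟨τ', h1, -, h3⟩ := exists_frobAut hF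
  have : τ = τ' := RingEquiv.ext (fun t => by rw [hτ, h1])
  rw [this]
  exact h3

theorem frob_orderOf (hF : Fintype.card F = q ^ 2) (τ : RingAut F) (hτ : ∀ t, τ t = t ^ q) :
    orderOf τ = 2 :=
  orderOf_eq_prime (frob_sq hF τ hτ) (frob_ne_one hF τ hτ)

/-- the involution of the field is unique -/
theorem involution_unique (σ τ : RingAut F) (hσ2 : σ ^ 2 = 1) (hσ1 : σ ≠ 1) (hτ2 : τ ^ 2 = 1)
    (hτ1 : τ ≠ 1) : σ = τ := by
  have hchar : CharP F (ringChar F) := ringChar.charP F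
  obtain ⟨k, hp, hk⟩ := FiniteField.card F (ringChar F)
  have : Fact (ringChar F).Prime := ⟨hp⟩
  have hk' : Fintype.card F = ringChar F ^ (k : ℕ) := hk
  obtain ⟨-, h1⟩ := involution_eq_frob (ringChar F) k hk' σ hσ2 hσ1
  obtain ⟨-, h2⟩ := involution_eq_frob (ringChar F) k hk' τ hτ2 hτ1
  exact RingEquiv.ext (fun t => by rw [h1, h2])

/-! ### the normal form -/

/-- **The normal form of an involutory graph automorphism of `PSU_n(q)`.** -/
theorem graphU_normal_form (hF : Fintype.card F = q ^ 2) (hn : 3 ≤ n) (hs : ¬ (n = 3 ∧ q = 2))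
    (τ : RingAut F) (hτ : ∀ t, τ t = t ^ q) (β : MulAut (Cfsg.PSU n F q))
    (hβ : Cfsg.IsGraphAutClassPSU β) (h2 : orderOf β = 2) :
    ∃ g : ↥(Cfsg.GU n F q), β = DhU g * PhU τ ∧
      (g.1.valᵀ = g.1.val ∨ g.1.valᵀ = -g.1.val) := by
  obtain ⟨-, δ, φ, σ, hσ, hδ, hφ, rfl⟩ := hβ
  obtain ⟨g, rfl⟩ := (innerDiagU_iff δ).1 hδ
  have hφ' := (fieldU_iff σ φ).1 hφ
  subst hφ'
  have hsq : (DhU g * PhU σ : MulAut (PSUn n F q)) ^ 2 = 1 := by
    rw [← h2]
    exact pow_orderOf_eq_one _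
  rw [graphU_sq] at hsq
  have hmem : (PhU (σ ^ 2) : MulAut (PSUn n F q)) ∈
      (DhU : ↥(Cfsg.GU n F q) →* MulAut (PSUn n F q)).range := by
    refine ⟨(g * gmapU σ g)⁻¹, ?_⟩
    rw [map_inv]
    exact (eq_inv_of_mul_eq_one_right hsq).symm
  have hσ2 : σ ^ 2 = 1 := eq_one_of_PhU_mem_range hF hn hs _ hmem
  have hσ1 : σ ≠ 1 := by
    rintro rfl
    rw [orderOf_one] at hσ
    exact absurd hσ (by decide)
  have hστ : σ = τ := involution_unique σ τ hσ2 hσ1 (frob_sq hF τ hτ) (frob_ne_one hF τ hτ)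
  subst hστ
  refine ⟨g, rfl, ?_⟩
  rw [hσ2, map_one, mul_one, DhU_eq_one_iff hF hn hs] at hsq
  exact (sq_scalar_iff (by omega) σ hτ g).1 hsq

theorem graphU_isGraph (hF : Fintype.card F = q ^ 2) (hn : 3 ≤ n) (τ : RingAut F)
    (hτ : ∀ t, τ t = t ^ q) (g : ↥(Cfsg.GU n F q)) :
    Cfsg.IsGraphAutClassPSU (DhU g * PhU τ : MulAut (Cfsg.PSU n F q)) :=
  ⟨hn, DhU g, PhU τ, τ, by rw [frob_orderOf hF τ hτ]; exact even_two,
    (innerDiagU_iff _).2 ⟨g, rfl⟩, (fieldU_iff _ _).2 rfl, rfl⟩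

theorem graphU_orderOf (hF : Fintype.card F = q ^ 2) (hn : 3 ≤ n) (hs : ¬ (n = 3 ∧ q = 2))
    (τ : RingAut F) (hτ : ∀ t, τ t = t ^ q) (g : ↥(Cfsg.GU n F q))
    (hg : g.1.valᵀ = g.1.val ∨ g.1.valᵀ = -g.1.val) :
    orderOf (DhU g * PhU τ : MulAut (Cfsg.PSU n F q)) = 2 := by
  apply orderOf_eq_prime
  · rw [graphU_sq, frob_sq hF τ hτ, map_one, mul_one, DhU_eq_one_iff hF hn hs]
    exact (sq_scalar_iff (by omega) τ hτ g).2 hg
  · intro h
    apply frob_ne_one hF τ hτ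
    apply eq_one_of_PhU_mem_range (n := n) hF hn hs
    refine ⟨g⁻¹, ?_⟩
    rw [map_inv]
    exact (eq_inv_of_mul_eq_one_right h).symm

/-! ### conjugacy and centraliser -/

theorem graphU_conj_iff (hF : Fintype.card F = q ^ 2) (hn : 3 ≤ n) (hs : ¬ (n = 3 ∧ q = 2))
    (τ : RingAut F) (hτ : ∀ t, τ t = t ^ q) (g g' : ↥(Cfsg.GU n F q)) :
    Cfsg.IsConjUnder (Cfsg.inndiagPSU n F q) (DhU g * PhU τ : MulAut (Cfsg.PSU n F q))
        (DhU g' * PhU τ) ↔
      ∃ (h : ↥(Cfsg.GU n F q)) (a : Fˣ),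
        h.1.val * g.1.val * h.1.valᵀ = (a : F) • g'.1.val := by
  rw [inndiagPSU_eq]
  constructor
  · rintro ⟨k, ⟨h, rfl⟩, hk⟩
    rw [graphU_conj, mul_left_inj, DhU_eq_iff hF hn hs, graphU_conj_val τ hτ] at hk
    obtain ⟨a, ha⟩ := hk
    refine ⟨h, a⁻¹, ?_⟩
    rw [ha, smul_smul, Units.val_inv_eq_inv_val, inv_mul_cancel₀ a.ne_zero, one_smul]
  · rintro ⟨h, a, ha⟩
    refine ⟨DhU h, ⟨h, rfl⟩, ?_⟩
    rw [graphU_conj, mul_left_inj, DhU_eq_iff hF hn hs, graphU_conj_val τ hτ]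
    refine ⟨a⁻¹, ?_⟩
    rw [ha, smul_smul, Units.val_inv_eq_inv_val, inv_mul_cancel₀ a.ne_zero, one_smul]

theorem mem_centGU_graph (hF : Fintype.card F = q ^ 2) (hn : 3 ≤ n) (hs : ¬ (n = 3 ∧ q = 2))
    (τ : RingAut F) (hτ : ∀ t, τ t = t ^ q) (g h : ↥(Cfsg.GU n F q)) :
    h ∈ centGU (DhU g * PhU τ : MulAut (PSUn n F q)) ↔
      ∃ a : Fˣ, h.1.val * g.1.val * h.1.valᵀ = (a : F) • g.1.val := by
  rw [mem_centGU]
  have e : (DhU h * (DhU g * PhU τ) = DhU g * PhU τ * DhU h : Prop) ↔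
      (DhU h * (DhU g * PhU τ) * (DhU h)⁻¹ : MulAut (PSUn n F q)) = DhU g * PhU τ := by
    rw [mul_inv_eq_iff_eq_mul]
  rw [e, graphU_conj, mul_left_inj, DhU_eq_iff hF hn hs, graphU_conj_val τ hτ]

end finite

end Cfsg.Agent.Lib.Helper8.UGr
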