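import Cfsg.Agent.Lib.Helper8.UGr.Exist
import Cfsg.Agent.Lib.Helper7.GraphInv.GraphCent
import Mathlib

/-!
# Transfer of conjugacy and centralisers from `PSU_n(q)` to `PSL_n(q)` (helper8)

With descent data `Rel ι τ g A P`, the involutory graph automorphism `DhU g * PhU τ` of `PSU_n(q)`
corresponds to the graph automorphism `Dh A * Γ` of `PSL_n(F₀)`: conjugacy under the inner-diagonal
groups corresponds, and the centralisers in the inner-diagonal groups are isomorphic.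
-/

set_option autoImplicit false
set_option linter.unusedSectionVars false

namespace Cfsg.Agent.Lib.Helper8.UGr

open Matrix Cfsg Cfsg.Agent.AutPSLCount Cfsg.Agent.Lib.H7AutPSL Cfsg.Agent.Lib.H7GraphInv
open Cfsg.Agent.Lib.H7AutPSU Cfsg.Agent.Lib.H7AutPSp Cfsg.Agent.Lib.Helper8.GrInv

universe u v

variable {n : ℕ} {F : Type u} [Field F] [Fintype F] {F₀ : Type v} [Field F₀] {q : ℕ}

theorem frob_frob (hF : Fintype.card F = q ^ 2) (τ : RingAut F) (hτ : ∀ t, τ t = t ^ q) :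
    ∀ t, τ (τ t) = t := aut_sq_apply τ (frob_sq hF τ hτ)

theorem frob_norm (hF : Fintype.card F = q ^ 2) (τ : RingAut F) (hτ : ∀ t, τ t = t ^ q) :
    ∀ e : F, e ≠ 0 → τ e = e → ∃ ν : F, ν ≠ 0 ∧ ν * τ ν = e :=
  norm_surj_two τ (frob_sq hF τ hτ) (frob_ne_one hF τ hτ)

/-- **Transfer of conjugacy.** -/
theorem conj_transfer (hF : Fintype.card F = q ^ 2) (hn : 3 ≤ n) (hs : ¬ (n = 3 ∧ q = 2))
    (τ : RingAut F) (hτ : ∀ t, τ t = t ^ q) (ι : F₀ →+* F)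
    (hfix : ∀ t : F, τ t = t ↔ ∃ s, ι s = t)
    {g g' : ↥(Cfsg.GU n F q)} {A A' : GL (Fin n) F₀} {P P' : GL (Fin n) F}
    (hR : Rel ι τ g.1.val A.val P) (hR' : Rel ι τ g'.1.val A'.val P') :
    Cfsg.IsConjUnder (Cfsg.inndiagPSU n F q) (DhU g * PhU τ : MulAut (Cfsg.PSU n F q))
        (DhU g' * PhU τ) ↔
      Cfsg.IsConjUnder (Cfsg.inndiagPSL n F₀) (Dh A * Γ : MulAut (PSLn n F₀)) (Dh A' * Γ) := by
  rw [graphU_conj_iff hF hn hs τ hτ, graph_conj_iff (by omega)]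
  constructor
  · rintro ⟨h, a, hc⟩
    obtain ⟨h₀, μ, d, -, hd⟩ := descend_conj ι τ hfix (by omega) hR hR' h.1 (GU_map τ hτ h) a hc
    exact ⟨h₀, d, hd⟩
  · rintro ⟨h₀, d, hd⟩
    obtain ⟨h, ν, -, hunit, a, hc⟩ := lift_conj ι τ hfix (frob_frob hF τ hτ) (frob_norm hF τ hτ)
      (by omega) hR hR' h₀ d hd
    exact ⟨⟨h, (mem_GU_iff τ q hτ h).2 hunit⟩, a, hc⟩

/-! ### the centraliser -/

section cent

variable (hF : Fintype.card F = q ^ 2) (hn : 3 ≤ n) (hs : ¬ (n = 3 ∧ q = 2))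
  (τ : RingAut F) (hτ : ∀ t, τ t = t ^ q) (ι : F₀ →+* F)
  (hfix : ∀ t : F, τ t = t ↔ ∃ s, ι s = t)
  {g : ↥(Cfsg.GU n F q)} {A : GL (Fin n) F₀} {P : GL (Fin n) F}
  (hR : Rel ι τ g.1.val A.val P)

include hF hn hs hτ hfix hR in
/-- lifting a centralising matrix -/
theorem exists_lift_cent (h₀ : GL (Fin n) F₀)
    (hh₀ : h₀ ∈ centGL (Dh A * Γ : MulAut (PSLn n F₀))) :
    ∃ u : ↥(Cfsg.GU n F q), u ∈ centGU (DhU g * PhU τ : MulAut (PSUn n F q)) ∧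
      ∃ ν : Fˣ, u.1.val = (ν : F) • (P.val * h₀.val.map ι * P⁻¹.val) := by
  obtain ⟨d, hd⟩ := (mem_centGL_graph (by omega) A h₀).1 hh₀
  obtain ⟨h, ν, hval, hunit, a, hc⟩ := lift_conj ι τ hfix (frob_frob hF τ hτ)
    (frob_norm hF τ hτ) (by omega) hR hR h₀ d hd
  refine ⟨⟨h, (mem_GU_iff τ q hτ h).2 hunit⟩, ?_, ν, hval⟩
  rw [mem_centGU_graph hF hn hs τ hτ]
  exact ⟨a, hc⟩

/-- the chosen lift -/
noncomputable def liftU (h₀ : ↥(centGL (Dh A * Γ : MulAut (PSLn n F₀)))) : ↥(Cfsg.GU n F q) :=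
  Classical.choose (exists_lift_cent hF hn hs τ hτ ι hfix hR h₀.1 h₀.2)

theorem liftU_mem (h₀ : ↥(centGL (Dh A * Γ : MulAut (PSLn n F₀)))) :
    liftU hF hn hs τ hτ ι hfix hR h₀ ∈ centGU (DhU g * PhU τ : MulAut (PSUn n F q)) :=
  (Classical.choose_spec (exists_lift_cent hF hn hs τ hτ ι hfix hR h₀.1 h₀.2)).1

theorem liftU_val (h₀ : ↥(centGL (Dh A * Γ : MulAut (PSLn n F₀)))) :
    ∃ ν : Fˣ, (liftU hF hn hs τ hτ ι hfix hR h₀).1.val =
      (ν : F) • (P.val * h₀.1.val.map ι * P⁻¹.val) :=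
  (Classical.choose_spec (exists_lift_cent hF hn hs τ hτ ι hfix hR h₀.1 h₀.2)).2

/-- the homomorphism from the centraliser over the fixed field -/
noncomputable def liftHom : ↥(centGL (Dh A * Γ : MulAut (PSLn n F₀))) →*
    ↥((DhU : ↥(Cfsg.GU n F q) →* MulAut (PSUn n F q)).range ⊓
      Subgroup.centralizer {(DhU g * PhU τ : MulAut (PSUn n F q))}) :=
  MonoidHom.mk' (fun h₀ => ⟨DhU (liftU hF hn hs τ hτ ι hfix hR h₀),
    Subgroup.mem_inf.2 ⟨⟨_, rfl⟩, liftU_mem hF hn hs τ hτ ι hfix hR h₀⟩⟩) (by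
    intro x y
    apply Subtype.ext
    show DhU (liftU hF hn hs τ hτ ι hfix hR (x * y)) =
      DhU (liftU hF hn hs τ hτ ι hfix hR x) * DhU (liftU hF hn hs τ hτ ι hfix hR y)
    rw [← map_mul, DhU_eq_iff hF hn hs]
    obtain ⟨ν, hν⟩ := liftU_val hF hn hs τ hτ ι hfix hR (x * y)
    obtain ⟨ν₁, hν₁⟩ := liftU_val hF hn hs τ hτ ι hfix hR x
    obtain ⟨ν₂, hν₂⟩ := liftU_val hF hn hs τ hτ ι hfix hR y
    refine ⟨ν * (ν₁ * ν₂)⁻¹, ?_⟩
    have e1 : (liftU hF hn hs τ hτ ι hfix hR x * liftU hF hn hs τ hτ ι hfix hR y).1.val =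
        ((ν₁ : F) * ν₂) • (P.val * (x * y).1.val.map ι * P⁻¹.val) := by
      show (liftU hF hn hs τ hτ ι hfix hR x).1.val * (liftU hF hn hs τ hτ ι hfix hR y).1.val = _
      rw [hν₁, hν₂, Matrix.smul_mul, Matrix.mul_smul, smul_smul]
      congr 1
      show _ = P.val * (x.1.val * y.1.val).map ι * P⁻¹.val
      rw [imap_mul]
      simp only [Matrix.mul_assoc]
      rw [← Matrix.mul_assoc P⁻¹.val, gl_inv_mul, Matrix.one_mul]
    rw [hν, e1, smul_smul]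
    congr 1
    rw [Units.val_mul, Units.val_inv_eq_inv_val, Units.val_mul]
    have h1 : (ν₁ : F) ≠ 0 := ν₁.ne_zero
    have h2 : (ν₂ : F) ≠ 0 := ν₂.ne_zero
    field_simp)

theorem liftHom_val (h₀ : ↥(centGL (Dh A * Γ : MulAut (PSLn n F₀)))) :
    (liftHom hF hn hs τ hτ ι hfix hR h₀).1 = DhU (liftU hF hn hs τ hτ ι hfix hR h₀) := rfl

include hF hn hs hτ hfix hR in
theorem liftHom_surjective : Function.Surjective (liftHom hF hn hs τ hτ ι hfix hR) := by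
  rintro ⟨y, hy⟩
  obtain ⟨⟨h, rfl⟩, hcent⟩ := Subgroup.mem_inf.1 hy
  have hh : h ∈ centGU (DhU g * PhU τ : MulAut (PSUn n F q)) := hcent
  obtain ⟨a, ha⟩ := (mem_centGU_graph hF hn hs τ hτ g h).1 hh
  obtain ⟨h₀, μ, d, hk, hd⟩ := descend_conj ι τ hfix (by omega) hR hR h.1 (GU_map τ hτ h) a ha
  have hh₀ : h₀ ∈ centGL (Dh A * Γ : MulAut (PSLn n F₀)) :=
    (mem_centGL_graph (by omega) A h₀).2 ⟨d, hd⟩
  refine ⟨⟨h₀, hh₀⟩, ?_⟩
  apply Subtype.ext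
  rw [liftHom_val]
  show DhU _ = DhU h
  rw [DhU_eq_iff hF hn hs]
  obtain ⟨ν, hν⟩ := liftU_val hF hn hs τ hτ ι hfix hR ⟨h₀, hh₀⟩
  refine ⟨ν * μ⁻¹, ?_⟩
  have e1 : P.val * h₀.val.map ι * P⁻¹.val = (μ : F)⁻¹ • h.1.val := by
    have e2 : h₀.val.map ι = (μ : F)⁻¹ • (P⁻¹.val * h.1.val * P.val) := by
      rw [hk, smul_smul, inv_mul_cancel₀ μ.ne_zero, one_smul]
    rw [e2, Matrix.mul_smul, Matrix.smul_mul]
    congr 1
    simp only [Matrix.mul_assoc]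
    rw [gl_mul_inv, Matrix.mul_one, ← Matrix.mul_assoc, gl_mul_inv, Matrix.one_mul]
  rw [hν]
  show (ν : F) • (P.val * h₀.val.map ι * P⁻¹.val) = _
  rw [e1, smul_smul, Units.val_mul, Units.val_inv_eq_inv_val]

include hF hn hs hτ hfix hR in
theorem liftHom_ker : (liftHom hF hn hs τ hτ ι hfix hR).ker =
    (Cfsg.Geo.scalars (Fin n) F₀).subgroupOf (centGL (Dh A * Γ : MulAut (PSLn n F₀))) := by
  ext h₀
  rw [MonoidHom.mem_ker, Subgroup.mem_subgroupOf, Cfsg.Geo.mem_scalars_iff, Subtype.ext_iff,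
    liftHom_val]
  show DhU _ = 1 ↔ _
  rw [DhU_eq_one_iff hF hn hs]
  obtain ⟨ν, hν⟩ := liftU_val hF hn hs τ hτ ι hfix hR h₀
  constructor
  · rintro ⟨a, ha⟩
    rw [hν] at ha
    -- `ι(h₀) = (a/ν) • 1`
    have e1 : h₀.1.val.map ι = ((a : F) * (ν : F)⁻¹) • (1 : Matrix (Fin n) (Fin n) F₀).map ι := by
      have e2 : P.val * h₀.1.val.map ι * P⁻¹.val =
          ((a : F) * (ν : F)⁻¹) • (1 : Matrix (Fin n) (Fin n) F) := by
        calc P.val * h₀.1.val.map ι * P⁻¹.val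
            = (ν : F)⁻¹ • ((ν : F) • (P.val * h₀.1.val.map ι * P⁻¹.val)) := by
              rw [smul_smul, inv_mul_cancel₀ ν.ne_zero, one_smul]
          _ = _ := by rw [ha, smul_smul, mul_comm]
      calc h₀.1.val.map ι = P⁻¹.val * (P.val * h₀.1.val.map ι * P⁻¹.val) * P.val := by
            simp only [Matrix.mul_assoc]
            rw [gl_inv_mul, Matrix.mul_one, ← Matrix.mul_assoc, gl_inv_mul, Matrix.one_mul]
        _ = _ := by
            rw [e2, Matrix.mul_smul, Matrix.smul_mul, Matrix.mul_one, gl_inv_mul, imap_one]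
    have hone : (1 : Matrix (Fin n) (Fin n) F₀) ≠ 0 := by
      have := gl_ne_zero (n := n) (R := F₀) (by omega) 1
      rwa [Units.val_one] at this
    obtain ⟨d, hd, hdA⟩ := scalar_descend ι _ _ _ hone e1
    have hd0 : d ≠ 0 := by
      rintro rfl
      rw [map_zero] at hd
      exact (mul_ne_zero a.ne_zero (inv_ne_zero ν.ne_zero)) hd.symm
    exact ⟨Units.mk0 d hd0, by rw [Units.val_mk0]; exact hdA⟩
  · rintro ⟨c, hc⟩
    refine ⟨ν * Units.map ι.toMonoidHom c, ?_⟩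
    rw [hν, hc, imap_smul, imap_one, Matrix.mul_smul, Matrix.smul_mul, Matrix.mul_one,
      gl_mul_inv, smul_smul]
    rfl

include hF hn hs hτ hfix hR in
/-- **Transfer of the centraliser.** -/
theorem cent_transfer :
    Nonempty (↥(Cfsg.inndiagPSU n F q ⊓
        Subgroup.centralizer {(DhU g * PhU τ : MulAut (Cfsg.PSU n F q))}) ≃*
      ↥(Cfsg.inndiagPSL n F₀ ⊓
        Subgroup.centralizer {(Dh A * Γ : MulAut (PSLn n F₀))})) := by
  rw [inndiagPSU_eq, inndiag_eq_Dsub]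
  obtain ⟨e0⟩ := cent_equiv_projQuot (by omega) (Dh A * Γ : MulAut (PSLn n F₀)) _ rfl
  have e1 := QuotientGroup.quotientKerEquivOfSurjective (liftHom hF hn hs τ hτ ι hfix hR)
    (liftHom_surjective hF hn hs τ hτ ι hfix hR)
  have e2 := QuotientGroup.quotientMulEquivOfEq (liftHom_ker hF hn hs τ hτ ι hfix hR)
  exact ⟨(e0.trans (e2.symm.trans e1)).symm⟩

end cent

end Cfsg.Agent.Lib.Helper8.UGr
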