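import Cfsg.Agent.Lib.Helper8.UGr.Basic
import Mathlib

/-!
# Galois descent for involutory graph automorphisms of `PSU_n(q)` (helper8)

`F₀ ⊆ F` is the fixed field of the involution `τ`.  A unitary matrix `g` with `gᵀ = ± g` gives the
`τ`-semilinear map `v ↦ g τ(v)`; a basis `P` of an `F₀`-form of the space fixed (up to a scalar)
by it turns `g` into a matrix `A` over `F₀` (`Rel`).  Conjugators descend and lift.
-/

set_option autoImplicit false
set_option linter.unusedSectionVars false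

namespace Cfsg.Agent.Lib.Helper8.UGr

open Matrix Cfsg

universe u v

variable {n : ℕ} {F : Type u} [Field F] {F₀ : Type v} [Field F₀]

/-! ### applying the involution to matrices -/

theorem tmap_mul (τ : RingAut F) (A B : Matrix (Fin n) (Fin n) F) :
    (A * B).map τ = A.map τ * B.map τ := by
  ext i j
  simp only [Matrix.map_apply, Matrix.mul_apply, map_sum, map_mul]

theorem tmap_smul (τ : RingAut F) (c : F) (A : Matrix (Fin n) (Fin n) F) :
    (c • A).map τ = τ c • A.map τ := by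
  ext i j
  simp only [Matrix.map_apply, Matrix.smul_apply, smul_eq_mul, map_mul]

theorem tmap_one (τ : RingAut F) : (1 : Matrix (Fin n) (Fin n) F).map τ = 1 := by
  ext i j
  rw [Matrix.map_apply, Matrix.one_apply]
  split_ifs with h
  · rw [map_one]
  · rw [map_zero]

theorem tmap_transpose (τ : RingAut F) (A : Matrix (Fin n) (Fin n) F) :
    (Aᵀ).map τ = (A.map τ)ᵀ := rfl

theorem tmap_tmap (τ : RingAut F) (hτ2 : ∀ t, τ (τ t) = t) (A : Matrix (Fin n) (Fin n) F) :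
    (A.map τ).map τ = A := by
  ext i j
  exact hτ2 (A i j)

theorem tmap_imap (ι : F₀ →+* F) (τ : RingAut F) (hfix : ∀ t : F, τ t = t ↔ ∃ s, ι s = t)
    (A : Matrix (Fin n) (Fin n) F₀) : (A.map ι).map τ = A.map ι := by
  ext i j
  exact (hfix _).2 ⟨A i j, rfl⟩

theorem imap_mul (ι : F₀ →+* F) (A B : Matrix (Fin n) (Fin n) F₀) :
    (A * B).map ι = A.map ι * B.map ι := Matrix.map_mul

theorem imap_smul (ι : F₀ →+* F) (c : F₀) (A : Matrix (Fin n) (Fin n) F₀) :
    (c • A).map ι = ι c • A.map ι := by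
  ext i j
  simp only [Matrix.map_apply, Matrix.smul_apply, smul_eq_mul, map_mul]

theorem imap_one (ι : F₀ →+* F) : (1 : Matrix (Fin n) (Fin n) F₀).map ι = 1 :=
  Matrix.map_one ι (map_zero ι) (map_one ι)

theorem imap_transpose (ι : F₀ →+* F) (A : Matrix (Fin n) (Fin n) F₀) :
    (Aᵀ).map ι = (A.map ι)ᵀ := rfl

theorem imap_injective (ι : F₀ →+* F) {A B : Matrix (Fin n) (Fin n) F₀}
    (h : A.map ι = B.map ι) : A = B := by
  ext i j
  have := congrFun (congrFun h i) j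
  rw [Matrix.map_apply, Matrix.map_apply] at this
  exact ι.injective this

theorem imap_det (ι : F₀ →+* F) (A : Matrix (Fin n) (Fin n) F₀) :
    (A.map ι).det = ι A.det := by
  rw [RingHom.map_det]
  rfl

/-! ### GL conveniences -/

theorem gl_mul_inv (g : GL (Fin n) F) : g.val * g⁻¹.val = 1 := by
  rw [← Units.val_mul, mul_inv_cancel, Units.val_one]

theorem gl_inv_mul (g : GL (Fin n) F) : g⁻¹.val * g.val = 1 := by
  rw [← Units.val_mul, inv_mul_cancel, Units.val_one]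

theorem exists_entry_ne_zero {R : Type*} [Zero R] {M : Matrix (Fin n) (Fin n) R} (hM : M ≠ 0) :
    ∃ i j, M i j ≠ 0 := by
  by_contra hcon
  apply hM
  ext i j
  by_contra hij
  exact hcon ⟨i, j, hij⟩

theorem gl_ne_zero {R : Type*} [CommRing R] [Nontrivial R] (hn : 1 ≤ n) (g : GL (Fin n) R) :
    g.val ≠ 0 := by
  intro h
  have h1 : g.val * g⁻¹.val = 1 := by rw [← Units.val_mul, mul_inv_cancel, Units.val_one]
  rw [h, Matrix.zero_mul] at h1
  have := congrFun (congrFun h1 ⟨0, hn⟩) ⟨0, hn⟩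
  rw [Matrix.zero_apply, Matrix.one_apply_eq] at this
  exact zero_ne_one this

/-! ### descent of matrices -/

/-- a matrix proportional to its conjugate is a scalar multiple of a matrix over the fixed field -/
theorem descend_matrix (ι : F₀ →+* F) (τ : RingAut F) (hfix : ∀ t : F, τ t = t ↔ ∃ s, ι s = t)
    (k : Matrix (Fin n) (Fin n) F) (hk : k ≠ 0) (b : F) (h : k = b • k.map τ) :
    ∃ (μ : Fˣ) (k₀ : Matrix (Fin n) (Fin n) F₀), k = (μ : F) • k₀.map ι := by
  obtain ⟨i, j, hij⟩ := exists_entry_ne_zero hk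
  have hent : ∀ i' j', k i' j' = b * τ (k i' j') := by
    intro i' j'
    have := congrFun (congrFun h i') j'
    rw [Matrix.smul_apply, Matrix.map_apply, smul_eq_mul] at this
    exact this
  have hb : b ≠ 0 := by
    rintro rfl
    apply hij
    rw [hent i j, zero_mul]
  have hτx : τ (k i j) ≠ 0 := (map_ne_zero τ).2 hij
  have hfixed : ∀ i' j', τ (k i' j' / k i j) = k i' j' / k i j := by
    intro i' j'
    rw [map_div₀]
    rw [div_eq_div_iff hτx hij]
    have h1 := hent i j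
    have h2 := hent i' j'
    calc τ (k i' j') * k i j = τ (k i' j') * (b * τ (k i j)) := by rw [← h1]
      _ = b * τ (k i' j') * τ (k i j) := by ring
      _ = k i' j' * τ (k i j) := by rw [← h2]
  choose s hs using fun i' j' => (hfix _).1 (hfixed i' j')
  refine ⟨Units.mk0 (k i j) hij, Matrix.of s, ?_⟩
  ext i' j'
  rw [Matrix.smul_apply, Matrix.map_apply, Matrix.of_apply, hs, Units.val_mk0, smul_eq_mul,
    mul_div_cancel₀ _ hij]

/-- a proportionality factor between matrices over the fixed field lies in the fixed field -/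
theorem scalar_descend (ι : F₀ →+* F) (e : F) (A B : Matrix (Fin n) (Fin n) F₀) (hB : B ≠ 0)
    (h : A.map ι = e • B.map ι) : ∃ d : F₀, ι d = e ∧ A = d • B := by
  obtain ⟨i, j, hij⟩ := exists_entry_ne_zero hB
  have hent : ∀ i' j', ι (A i' j') = e * ι (B i' j') := by
    intro i' j'
    have := congrFun (congrFun h i') j'
    rw [Matrix.smul_apply, Matrix.map_apply, Matrix.map_apply, smul_eq_mul] at this
    exact this
  have hιB : ι (B i j) ≠ 0 := (map_ne_zero ι).2 hij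
  have hd : ι (A i j / B i j) = e := by
    rw [map_div₀, hent i j, mul_div_cancel_right₀ _ hιB]
  refine ⟨A i j / B i j, hd, ?_⟩
  apply imap_injective ι
  rw [imap_smul, hd, h]

/-! ### descent data -/

/-- descent data relating the unitary matrix `g` to the matrix `A` over the fixed field -/
def Rel (ι : F₀ →+* F) (τ : RingAut F) (g : Matrix (Fin n) (Fin n) F)
    (A : Matrix (Fin n) (Fin n) F₀) (P : GL (Fin n) F) : Prop :=
  (∃ κ : Fˣ, g * P.val.map τ = (κ : F) • P.val) ∧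
    ∃ c : Fˣ, P.val * A.map ι * P.valᵀ = (c : F) • g

/-- cancelling a congruence -/
theorem cancel_congr (P : GL (Fin n) F) {X Y : Matrix (Fin n) (Fin n) F}
    (h : P.val * X * P.valᵀ = P.val * Y * P.valᵀ) : X = Y := by
  have h1 : ∀ Z : Matrix (Fin n) (Fin n) F,
      P⁻¹.val * (P.val * Z * P.valᵀ) * (P⁻¹.val)ᵀ = Z := by
    intro Z
    rw [Matrix.mul_assoc P.val, ← Matrix.mul_assoc P⁻¹.val, gl_inv_mul, Matrix.one_mul,
      Matrix.mul_assoc, transpose_mul_inv, Matrix.mul_one]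
  rw [← h1 X, h, h1 Y]

/-- **descent of a conjugator** -/
theorem descend_conj (ι : F₀ →+* F) (τ : RingAut F) (hfix : ∀ t : F, τ t = t ↔ ∃ s, ι s = t)
    (hn : 1 ≤ n) {g g' : Matrix (Fin n) (Fin n) F} {A A' : GL (Fin n) F₀} {P P' : GL (Fin n) F}
    (hR : Rel ι τ g A.val P) (hR' : Rel ι τ g' A'.val P')
    (h : GL (Fin n) F) (hu : h.val.map τ = (h⁻¹.val)ᵀ) (a : Fˣ)
    (hc : h.val * g * h.valᵀ = (a : F) • g') :
    ∃ (h₀ : GL (Fin n) F₀) (μ : Fˣ) (d : F₀ˣ),
      P'⁻¹.val * h.val * P.val = (μ : F) • h₀.val.map ι ∧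
      h₀.val * A.val * h₀.valᵀ = (d : F₀) • A'.val := by
  obtain ⟨⟨κ, hκ⟩, c, hcg⟩ := hR
  obtain ⟨⟨κ', hκ'⟩, c', hcg'⟩ := hR'
  obtain ⟨kU, hkU⟩ : ∃ kU : GL (Fin n) F, kU = P'⁻¹ * h * P := ⟨_, rfl⟩
  obtain ⟨k, hkk⟩ : ∃ k, k = kU.val := ⟨_, rfl⟩
  have hkdef : k = P'⁻¹.val * h.val * P.val := by rw [hkk, hkU]; rfl
  have hP'k : P'.val * k = h.val * P.val := by
    rw [hkdef, ← Matrix.mul_assoc, ← Matrix.mul_assoc, gl_mul_inv, Matrix.one_mul]
  -- `h g = a g' τ(h)`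
  have hA : h.val * g = (a : F) • (g' * h.val.map τ) := by
    rw [hu]
    calc h.val * g = h.val * g * (h.valᵀ * (h⁻¹.val)ᵀ) := by
          rw [transpose_mul_inv, Matrix.mul_one]
      _ = (h.val * g * h.valᵀ) * (h⁻¹.val)ᵀ := by rw [← Matrix.mul_assoc]
      _ = _ := by rw [hc, Matrix.smul_mul]
  have hB : (κ : F) • (h.val * P.val) = ((a : F) * κ') • (P'.val * k.map τ) := by
    calc (κ : F) • (h.val * P.val) = h.val * (g * P.val.map τ) := by rw [hκ, Matrix.mul_smul]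
      _ = (h.val * g) * P.val.map τ := by rw [Matrix.mul_assoc]
      _ = (a : F) • (g' * (h.val.map τ * P.val.map τ)) := by
          rw [hA, Matrix.smul_mul, Matrix.mul_assoc]
      _ = (a : F) • (g' * (P'.val * k).map τ) := by rw [← tmap_mul, hP'k]
      _ = (a : F) • ((g' * P'.val.map τ) * k.map τ) := by rw [tmap_mul, Matrix.mul_assoc]
      _ = _ := by rw [hκ', Matrix.smul_mul, smul_smul]
  have hC : k = ((a : F) * κ' * (κ : F)⁻¹) • k.map τ := by
    have h1 : (κ : F) • k = ((a : F) * κ') • k.map τ := by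
      have h2 : P'⁻¹.val * ((κ : F) • (h.val * P.val)) =
          P'⁻¹.val * (((a : F) * κ') • (P'.val * k.map τ)) := by rw [hB]
      rw [Matrix.mul_smul, Matrix.mul_smul, ← Matrix.mul_assoc, ← Matrix.mul_assoc, gl_inv_mul,
        Matrix.one_mul, ← hkdef] at h2
      exact h2
    calc k = (κ : F)⁻¹ • ((κ : F) • k) := by
          rw [smul_smul, inv_mul_cancel₀ κ.ne_zero, one_smul]
      _ = _ := by rw [h1, smul_smul]; congr 1; ring
  have hk0 : k ≠ 0 := by rw [hkk]; exact gl_ne_zero hn kU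
  obtain ⟨μ, k₀, hk₀⟩ := descend_matrix ι τ hfix k hk0 _ hC
  have hdet : k₀.det ≠ 0 := by
    intro h0
    have h1 : k.det = 0 := by
      rw [hk₀, Matrix.det_smul, imap_det, h0, map_zero, mul_zero]
    have h2 : IsUnit k.det := by
      rw [hkk]
      exact (Matrix.isUnit_iff_isUnit_det _).1 kU.isUnit
    rw [h1] at h2
    exact not_isUnit_zero h2
  have hu0 : IsUnit k₀ := (Matrix.isUnit_iff_isUnit_det _).2 (IsUnit.mk0 _ hdet)
  have hF1 : (h.val * P.val) * A.val.map ι * (h.val * P.val)ᵀ = ((c : F) * a) • g' := by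
    rw [Matrix.transpose_mul]
    calc h.val * P.val * A.val.map ι * (P.valᵀ * h.valᵀ)
        = h.val * (P.val * A.val.map ι * P.valᵀ) * h.valᵀ := by simp only [Matrix.mul_assoc]
      _ = _ := by rw [hcg, Matrix.mul_smul, Matrix.smul_mul, hc, smul_smul]
  have hF2 : h.val * P.val = (μ : F) • (P'.val * k₀.map ι) := by
    rw [← hP'k, hk₀, Matrix.mul_smul]
  have hF3 : (h.val * P.val) * A.val.map ι * (h.val * P.val)ᵀ =
      P'.val * (((μ : F) * μ) • (k₀ * A.val * k₀ᵀ).map ι) * P'.valᵀ := by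
    rw [hF2, Matrix.transpose_smul, Matrix.transpose_mul, imap_mul, imap_mul, imap_transpose]
    simp only [Matrix.smul_mul, Matrix.mul_smul, smul_smul, Matrix.mul_assoc]
  have hF4 : P'.val * ((c' : F) • ((μ : F) * μ) • (k₀ * A.val * k₀ᵀ).map ι) * P'.valᵀ =
      P'.val * (((c : F) * a) • A'.val.map ι) * P'.valᵀ := by
    rw [Matrix.mul_smul, Matrix.smul_mul, ← hF3, hF1, Matrix.mul_smul, Matrix.smul_mul, hcg',
      smul_smul, smul_smul, mul_comm]
  have hF5 := cancel_congr P' hF4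
  have hμ0 : (μ : F) ≠ 0 := μ.ne_zero
  have hc'0 : (c' : F) ≠ 0 := c'.ne_zero
  have hF6 : (k₀ * A.val * k₀ᵀ).map ι =
      ((c : F) * a * ((c' : F) * ((μ : F) * μ))⁻¹) • A'.val.map ι := by
    have h1 : (k₀ * A.val * k₀ᵀ).map ι = ((c' : F) * ((μ : F) * μ))⁻¹ •
        ((c' : F) • ((μ : F) * μ) • (k₀ * A.val * k₀ᵀ).map ι) := by
      rw [smul_smul, smul_smul]
      conv_lhs => rw [← one_smul F ((k₀ * A.val * k₀ᵀ).map ι)]
      congr 1
      field_simp
    rw [h1, hF5, smul_smul]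
    congr 1
    ring
  obtain ⟨d, hd, hdA⟩ := scalar_descend ι _ _ _ (gl_ne_zero hn A') hF6
  have hd0 : d ≠ 0 := by
    rintro rfl
    rw [map_zero] at hd
    have : (c : F) * a * ((c' : F) * ((μ : F) * μ))⁻¹ ≠ 0 :=
      mul_ne_zero (mul_ne_zero c.ne_zero a.ne_zero)
        (inv_ne_zero (mul_ne_zero hc'0 (mul_ne_zero hμ0 hμ0)))
    exact this hd.symm
  refine ⟨hu0.unit, μ, Units.mk0 d hd0, ?_, ?_⟩
  · rw [IsUnit.unit_spec, ← hkdef, hk₀]
  · rw [IsUnit.unit_spec, Units.val_mk0]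
    exact hdA

/-- **lifting a conjugator** -/
theorem lift_conj (ι : F₀ →+* F) (τ : RingAut F) (hfix : ∀ t : F, τ t = t ↔ ∃ s, ι s = t)
    (hτ2 : ∀ t, τ (τ t) = t)
    (hnorm : ∀ e : F, e ≠ 0 → τ e = e → ∃ ν : F, ν ≠ 0 ∧ ν * τ ν = e) (hn : 1 ≤ n)
    {g g' : GL (Fin n) F} {A A' : GL (Fin n) F₀} {P P' : GL (Fin n) F}
    (hR : Rel ι τ g.val A.val P) (hR' : Rel ι τ g'.val A'.val P')
    (h₀ : GL (Fin n) F₀) (d : F₀ˣ) (hc : h₀.val * A.val * h₀.valᵀ = (d : F₀) • A'.val) :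
    ∃ (h : GL (Fin n) F) (ν : Fˣ), h.val = (ν : F) • (P'.val * h₀.val.map ι * P⁻¹.val) ∧
      h.val * (h.val.map τ)ᵀ = 1 ∧ ∃ a : Fˣ, h.val * g.val * h.valᵀ = (a : F) • g'.val := by
  obtain ⟨⟨κ, hκ⟩, c, hcg⟩ := hR
  obtain ⟨⟨κ', hκ'⟩, c', hcg'⟩ := hR'
  obtain ⟨h₁, hh₁⟩ : ∃ h₁, h₁ = P'.val * h₀.val.map ι * P⁻¹.val := ⟨_, rfl⟩
  have h1P : h₁ * P.val = P'.val * h₀.val.map ι := by
    rw [hh₁, Matrix.mul_assoc, gl_inv_mul, Matrix.mul_one]
  have hS1 : (c : F) • (h₁ * g.val * h₁ᵀ) = (ι d * c') • g'.val := by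
    calc (c : F) • (h₁ * g.val * h₁ᵀ) = h₁ * ((c : F) • g.val) * h₁ᵀ := by
          rw [Matrix.mul_smul, Matrix.smul_mul]
      _ = (h₁ * P.val) * A.val.map ι * (h₁ * P.val)ᵀ := by
          rw [← hcg, Matrix.transpose_mul]; simp only [Matrix.mul_assoc]
      _ = P'.val * (h₀.val * A.val * h₀.valᵀ).map ι * P'.valᵀ := by
          rw [h1P, Matrix.transpose_mul, imap_mul, imap_mul, imap_transpose]
          simp only [Matrix.mul_assoc]
      _ = _ := by
          rw [hc, imap_smul, Matrix.mul_smul, Matrix.smul_mul, hcg', smul_smul]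
  obtain ⟨a₁, ha₁⟩ : ∃ a₁ : F, a₁ = (c : F)⁻¹ * (ι d * c') := ⟨_, rfl⟩
  have ha₁0 : a₁ ≠ 0 := by
    rw [ha₁]
    exact mul_ne_zero (inv_ne_zero c.ne_zero)
      (mul_ne_zero ((map_ne_zero ι).2 d.ne_zero) c'.ne_zero)
  have hS1' : h₁ * g.val * h₁ᵀ = a₁ • g'.val := by
    calc h₁ * g.val * h₁ᵀ = (c : F)⁻¹ • ((c : F) • (h₁ * g.val * h₁ᵀ)) := by
          rw [smul_smul, inv_mul_cancel₀ c.ne_zero, one_smul]
      _ = _ := by rw [hS1, smul_smul, ha₁]
  have hPP : P.val.map τ * P⁻¹.val.map τ = 1 := by rw [← tmap_mul, gl_mul_inv, tmap_one]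
  have hS3 : g'.val * h₁.map τ = ((κ' : F) * (κ : F)⁻¹) • (h₁ * g.val) := by
    have e1 : g'.val * h₁.map τ * P.val.map τ = (κ' : F) • (h₁ * P.val) := by
      rw [Matrix.mul_assoc, ← tmap_mul, h1P, tmap_mul, tmap_imap ι τ hfix, ← Matrix.mul_assoc,
        hκ', Matrix.smul_mul]
    have e2 : h₁ * g.val * P.val.map τ = (κ : F) • (h₁ * P.val) := by
      rw [Matrix.mul_assoc, hκ, Matrix.mul_smul]
    have e3 : g'.val * h₁.map τ * P.val.map τ =
        (((κ' : F) * (κ : F)⁻¹) • (h₁ * g.val)) * P.val.map τ := by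
      rw [Matrix.smul_mul, e2, e1, smul_smul, mul_assoc, inv_mul_cancel₀ κ.ne_zero, mul_one]
    calc g'.val * h₁.map τ = g'.val * h₁.map τ * (P.val.map τ * P⁻¹.val.map τ) := by
          rw [hPP, Matrix.mul_one]
      _ = (g'.val * h₁.map τ * P.val.map τ) * P⁻¹.val.map τ := by rw [← Matrix.mul_assoc]
      _ = _ := by rw [e3, Matrix.mul_assoc, hPP, Matrix.mul_one]
  obtain ⟨e, he⟩ : ∃ e : F, e = (κ' : F) * (κ : F)⁻¹ * a₁ := ⟨_, rfl⟩
  have he0 : e ≠ 0 := by
    rw [he]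
    exact mul_ne_zero (mul_ne_zero κ'.ne_zero (inv_ne_zero κ.ne_zero)) ha₁0
  have hS4 : h₁.map τ * h₁ᵀ = e • (1 : Matrix (Fin n) (Fin n) F) := by
    have e1 : g'.val * (h₁.map τ * h₁ᵀ) = e • g'.val := by
      rw [← Matrix.mul_assoc, hS3, Matrix.smul_mul, hS1', smul_smul, he]
    calc h₁.map τ * h₁ᵀ = g'⁻¹.val * (g'.val * (h₁.map τ * h₁ᵀ)) := by
          rw [← Matrix.mul_assoc, gl_inv_mul, Matrix.one_mul]
      _ = _ := by rw [e1, Matrix.mul_smul, gl_inv_mul]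
  have hS5 : h₁ * (h₁.map τ)ᵀ = e • (1 : Matrix (Fin n) (Fin n) F) := by
    have := congrArg Matrix.transpose hS4
    rw [Matrix.transpose_mul, Matrix.transpose_transpose, Matrix.transpose_smul,
      Matrix.transpose_one] at this
    exact this
  have heτ : τ e = e := by
    have h1 : (h₁.map τ * h₁ᵀ).map τ = (e • (1 : Matrix (Fin n) (Fin n) F)).map τ := by rw [hS4]
    rw [tmap_mul, tmap_tmap τ hτ2, tmap_transpose, tmap_smul, tmap_one, hS5] at h1
    have := congrFun (congrFun h1 ⟨0, hn⟩) ⟨0, hn⟩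
    rw [Matrix.smul_apply, Matrix.smul_apply, Matrix.one_apply_eq, smul_eq_mul, smul_eq_mul,
      mul_one, mul_one] at this
    exact this.symm
  obtain ⟨ν, hν0, hν⟩ := hnorm e⁻¹ (inv_ne_zero he0) (by rw [map_inv₀, heτ])
  have hunit : (ν • h₁) * ((ν • h₁).map τ)ᵀ = 1 := by
    rw [tmap_smul, Matrix.transpose_smul, Matrix.smul_mul, Matrix.mul_smul, smul_smul, hS5,
      smul_smul, hν, inv_mul_cancel₀ he0, one_smul]
  have hU : IsUnit (ν • h₁) :=
    (Matrix.isUnit_iff_isUnit_det _).2 (Matrix.isUnit_det_of_right_inverse hunit)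
  refine ⟨hU.unit, Units.mk0 ν hν0, ?_, ?_, Units.mk0 (ν * ν * a₁)
    (mul_ne_zero (mul_ne_zero hν0 hν0) ha₁0), ?_⟩
  · rw [IsUnit.unit_spec, Units.val_mk0, hh₁]
  · rw [IsUnit.unit_spec]
    exact hunit
  · rw [IsUnit.unit_spec, Units.val_mk0, Matrix.transpose_smul, Matrix.smul_mul, Matrix.smul_mul,
      Matrix.mul_smul, smul_smul, hS1', smul_smul]

end Cfsg.Agent.Lib.Helper8.UGr
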