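import Cfsg.Agent.Lib.Helper8.UGr.Descent
import Cfsg.Agent.Lib.Helper7.AutPSL.Hermitian
import Cfsg.Agent.Lib.Helper7.AutPSL.GraphFieldCent
import Cfsg.Agent.Lib.Helper7.AutPSp.Hilbert90Gen
import Mathlib

/-!
# Existence of descent data (helper8)

Every unitary `g` with `gᵀ = ε g` has descent data (Hilbert 90), and every `A` over the fixed field
with `Aᵀ = ε A` arises (classification of Hermitian forms).
-/

set_option autoImplicit false
set_option linter.unusedSectionVars false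

namespace Cfsg.Agent.Lib.Helper8.UGr

open Matrix Cfsg Cfsg.Agent.Lib.H7AutPSL Cfsg.Agent.Lib.H7AutPSp Cfsg.Agent.Lib.Helper8.GrInv

universe u v

variable {n : ℕ} {F : Type u} [Field F] {F₀ : Type v} [Field F₀]

/-- a matrix over the fixed field is invertible if a scalar multiple of its image is -/
theorem isUnit_of_smul_imap (ι : F₀ →+* F) (k : GL (Fin n) F) (μ : F)
    (k₀ : Matrix (Fin n) (Fin n) F₀) (hk : k.val = μ • k₀.map ι) : IsUnit k₀ := by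
  have hdet : k₀.det ≠ 0 := by
    intro h0
    have h1 : k.val.det = 0 := by
      rw [hk, Matrix.det_smul, imap_det, h0, map_zero, mul_zero]
    have h2 : IsUnit k.val.det := (Matrix.isUnit_iff_isUnit_det _).1 k.isUnit
    rw [h1] at h2
    exact not_isUnit_zero h2
  exact (Matrix.isUnit_iff_isUnit_det _).2 (IsUnit.mk0 _ hdet)

theorem pnormG_two (τ : RingAut F) (G : Matrix (Fin n) (Fin n) F) :
    pnormG τ G 2 = G * G.map τ := by
  show G * (G * (1 : Matrix (Fin n) (Fin n) F).map τ).map τ = _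
  rw [tmap_one, Matrix.mul_one]

/-- the norm form of the hypothesis on the involution -/
theorem norm_surj_two [Finite F] (τ : RingAut F) (hτ2 : τ ^ 2 = 1) (hτ1 : τ ≠ 1) (e : F)
    (he0 : e ≠ 0) (he : τ e = e) : ∃ ν : F, ν ≠ 0 ∧ ν * τ ν = e := by
  obtain ⟨ν, hν0, hν⟩ := norm_surj τ 2 (by norm_num) hτ2 (two_inj hτ1) e he0 he
  rw [fnorm_two] at hν
  exact ⟨ν, hν0, hν⟩

section finite

variable [Finite F]

/-- **Existence of descent data** for a unitary matrix with `gᵀ = ε g`. -/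
theorem exists_rel (ι : F₀ →+* F) (τ : RingAut F) (hfix : ∀ t : F, τ t = t ↔ ∃ s, ι s = t)
    (hτ2 : τ ^ 2 = 1) (hτ1 : τ ≠ 1) (hn : 1 ≤ n)
    (g : GL (Fin n) F) (hgu : g.val * (g.val.map τ)ᵀ = 1) (ε : F) (ε₀ : F₀) (hεε : ι ε₀ = ε)
    (hε2 : ε * ε = 1) (hg : g.valᵀ = ε • g.val) :
    ∃ (A : GL (Fin n) F₀) (P : GL (Fin n) F), Rel ι τ g.val A.val P ∧ A.valᵀ = ε₀ • A.val := by
  have hτε : τ ε = ε := (hfix ε).2 ⟨ε₀, hεε⟩
  have hε0 : ε ≠ 0 := by
    rintro rfl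
    rw [mul_zero] at hε2
    exact zero_ne_one hε2
  -- `g τ(g) = ε`
  have h1 : g.val * g.val.map τ = ε • (1 : Matrix (Fin n) (Fin n) F) := by
    have e1 : (g.val.map τ)ᵀ = ε • g.val.map τ := by
      rw [← tmap_transpose, hg, tmap_smul, hτε]
    rw [e1, Matrix.mul_smul] at hgu
    calc g.val * g.val.map τ = (ε * ε) • (g.val * g.val.map τ) := by rw [hε2, one_smul]
      _ = ε • (ε • (g.val * g.val.map τ)) := by rw [smul_smul]
      _ = _ := by rw [hgu]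
  obtain ⟨κ, hκ0, hκ⟩ := norm_surj_two τ hτ2 hτ1 ε hε0 hτε
  have hN : pnormG τ (κ • g.val) 2 = 1 := by
    rw [pnormG_two, tmap_smul, Matrix.smul_mul, Matrix.mul_smul, smul_smul, h1, smul_smul,
      hκ, hε2, one_smul]
  obtain ⟨P, hPu, hP⟩ := hilbert90_matrixG τ 2 (by norm_num) hτ2 (two_inj hτ1) (κ • g.val) hN
  obtain ⟨PU, hPU⟩ : ∃ PU : GL (Fin n) F, PU.val = P := ⟨hPu.unit, IsUnit.unit_spec hPu⟩
  -- (a)
  have ha : g.val * PU.val.map τ = κ⁻¹ • PU.val := by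
    rw [hPU]
    calc g.val * P.map τ = κ⁻¹ • ((κ • g.val) * P.map τ) := by
          rw [Matrix.smul_mul, smul_smul, inv_mul_cancel₀ hκ0, one_smul]
      _ = _ := by rw [hP]
  -- `τ(Q) = κ Q g` with `Q = P⁻¹`
  have hQ : PU⁻¹.val.map τ = κ • (PU⁻¹.val * g.val) := by
    have e1 : (κ • (PU⁻¹.val * g.val)) * PU.val.map τ = 1 := by
      rw [Matrix.smul_mul, Matrix.mul_assoc, ha, Matrix.mul_smul, smul_smul,
        mul_inv_cancel₀ hκ0, one_smul, gl_inv_mul]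
    have e2 : PU.val.map τ * PU⁻¹.val.map τ = 1 := by rw [← tmap_mul, gl_mul_inv, tmap_one]
    calc PU⁻¹.val.map τ = ((κ • (PU⁻¹.val * g.val)) * PU.val.map τ) * PU⁻¹.val.map τ := by
          rw [e1, Matrix.one_mul]
      _ = _ := by rw [Matrix.mul_assoc, e2, Matrix.mul_one]
  -- the matrix `M = Q g Qᵀ`
  obtain ⟨MU, hMU⟩ : ∃ MU : GL (Fin n) F, MU.val = PU⁻¹.val * g.val * (PU⁻¹.val)ᵀ :=
    ⟨PU⁻¹ * g * gtr PU⁻¹, by rw [Units.val_mul, Units.val_mul, gtr_val]⟩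
  have hτ2' : ∀ t, τ (τ t) = t := aut_sq_apply τ hτ2
  have hMτ : MU.val.map τ = (κ * κ) • MU.val := by
    rw [hMU, tmap_mul, tmap_mul, tmap_transpose, hQ, Matrix.transpose_smul, Matrix.transpose_mul,
      hg]
    simp only [Matrix.smul_mul, Matrix.mul_smul, smul_smul]
    have e1 : PU⁻¹.val * g.val * g.val.map τ * (g.val * (PU⁻¹.val)ᵀ) =
        ε • (PU⁻¹.val * g.val * (PU⁻¹.val)ᵀ) := by
      rw [Matrix.mul_assoc PU⁻¹.val, h1, Matrix.mul_smul, Matrix.mul_one, Matrix.smul_mul,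
        Matrix.mul_assoc]
    rw [e1, smul_smul]
    congr 1
    linear_combination (κ * κ) * hε2
  have hMeq : MU.val = (κ * κ)⁻¹ • MU.val.map τ := by
    rw [hMτ, smul_smul, inv_mul_cancel₀ (mul_ne_zero hκ0 hκ0), one_smul]
  obtain ⟨μ, M₀, hM₀⟩ := descend_matrix ι τ hfix MU.val (gl_ne_zero hn MU) _ hMeq
  have hM₀u : IsUnit M₀ := isUnit_of_smul_imap ι MU μ M₀ hM₀
  refine ⟨hM₀u.unit, PU, ⟨⟨Units.mk0 κ⁻¹ (inv_ne_zero hκ0), ?_⟩, μ⁻¹, ?_⟩, ?_⟩
  · rw [Units.val_mk0]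
    exact ha
  · rw [IsUnit.unit_spec]
    have e1 : M₀.map ι = (μ : F)⁻¹ • MU.val := by
      rw [hM₀, smul_smul, inv_mul_cancel₀ μ.ne_zero, one_smul]
    rw [e1, hMU, Units.val_inv_eq_inv_val]
    simp only [Matrix.smul_mul, Matrix.mul_smul]
    congr 1
    rw [← Matrix.mul_assoc, ← Matrix.mul_assoc, gl_mul_inv, Matrix.one_mul, Matrix.mul_assoc,
      inv_transpose_mul, Matrix.mul_one]
  · rw [IsUnit.unit_spec]
    apply imap_injective ι
    rw [imap_transpose, imap_smul, hεε]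
    have e1 : M₀.map ι = (μ : F)⁻¹ • MU.val := by
      rw [hM₀, smul_smul, inv_mul_cancel₀ μ.ne_zero, one_smul]
    have e2 : MU.valᵀ = ε • MU.val := by
      rw [hMU, Matrix.transpose_mul, Matrix.transpose_mul, Matrix.transpose_transpose, hg,
        Matrix.smul_mul, Matrix.mul_smul, Matrix.mul_assoc]
    rw [e1, Matrix.transpose_smul, e2, smul_comm]

/-- **Every form over the fixed field arises** from a unitary matrix. -/
theorem exists_unitary_of_form (ι : F₀ →+* F) (τ : RingAut F)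
    (hfix : ∀ t : F, τ t = t ↔ ∃ s, ι s = t) (hτ2 : τ ^ 2 = 1) (hτ1 : τ ≠ 1)
    (A : GL (Fin n) F₀) (ε : F) (ε₀ : F₀) (hεε : ι ε₀ = ε) (hε2 : ε * ε = 1)
    (θ : F) (hθ0 : θ ≠ 0) (hθ : τ θ = ε * θ) (hA : A.valᵀ = ε₀ • A.val) :
    ∃ (g P : GL (Fin n) F), g.val * (g.val.map τ)ᵀ = 1 ∧ g.valᵀ = ε • g.val ∧
      Rel ι τ g.val A.val P := by
  have hτε : τ ε = ε := (hfix ε).2 ⟨ε₀, hεε⟩
  have hε0 : ε ≠ 0 := by
    rintro rfl
    rw [mul_zero] at hε2
    exact zero_ne_one hε2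
  have hε₀2 : ε₀ * ε₀ = 1 := ι.injective (by rw [map_mul, hεε, hε2, map_one])
  have hB : (A⁻¹.val)ᵀ = ε₀ • A⁻¹.val := by
    have e1 : (A⁻¹.val)ᵀ * A.valᵀ = 1 := inv_transpose_mul A
    rw [hA, Matrix.mul_smul] at e1
    calc (A⁻¹.val)ᵀ = (A⁻¹.val)ᵀ * (A.val * A⁻¹.val) := by rw [gl_mul_inv, Matrix.mul_one]
      _ = ((A⁻¹.val)ᵀ * A.val) * A⁻¹.val := by rw [Matrix.mul_assoc]
      _ = (ε₀ * ε₀) • (((A⁻¹.val)ᵀ * A.val) * A⁻¹.val) := by rw [hε₀2, one_smul]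
      _ = ε₀ • ((ε₀ • ((A⁻¹.val)ᵀ * A.val)) * A⁻¹.val) := by rw [Matrix.smul_mul, smul_smul]
      _ = _ := by rw [e1, Matrix.one_mul]
  obtain ⟨N₀, hN₀⟩ : ∃ N₀, N₀ = θ • A⁻¹.val.map ι := ⟨_, rfl⟩
  have hN₀u : IsUnit N₀ := by
    have : N₀ * (θ⁻¹ • A.val.map ι) = 1 := by
      rw [hN₀, Matrix.smul_mul, Matrix.mul_smul, smul_smul, mul_inv_cancel₀ hθ0, one_smul,
        ← imap_mul, gl_inv_mul, imap_one]
    exact (Matrix.isUnit_iff_isUnit_det _).2 (Matrix.isUnit_det_of_right_inverse this)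
  have hN₀h : N₀ = (N₀.map τ)ᵀ := by
    rw [hN₀, tmap_smul, tmap_imap ι τ hfix, Matrix.transpose_smul, ← imap_transpose, hB,
      imap_smul, hεε, hθ, smul_smul]
    congr 1
    linear_combination (-θ) * hε2
  obtain ⟨Q, hQu, hQ⟩ := hermitian_matrix τ hτ2 hτ1 N₀ hN₀u hN₀h
  obtain ⟨QU, hQU⟩ : ∃ QU : GL (Fin n) F, QU.val = Q := ⟨hQu.unit, IsUnit.unit_spec hQu⟩
  obtain ⟨PU, hPU⟩ : ∃ PU : GL (Fin n) F, PU.val = (QU⁻¹.val)ᵀ := ⟨gtr QU⁻¹, gtr_val _⟩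
  have hPt : PU.valᵀ = QU⁻¹.val := by rw [hPU, Matrix.transpose_transpose]
  have hH : PU.valᵀ * PU.val.map τ = N₀ := by
    rw [hPt, hPU, tmap_transpose]
    have e1 : (QU.val.map τ)ᵀ * (QU⁻¹.val.map τ)ᵀ = 1 := by
      rw [← Matrix.transpose_mul, ← tmap_mul, gl_inv_mul, tmap_one, Matrix.transpose_one]
    calc QU⁻¹.val * (QU⁻¹.val.map τ)ᵀ
        = QU⁻¹.val * ((QU.val * N₀ * (QU.val.map τ)ᵀ) * (QU⁻¹.val.map τ)ᵀ) := by
          rw [hQU, hQ, Matrix.one_mul]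
      _ = N₀ := by
          rw [Matrix.mul_assoc (QU.val * N₀), e1, Matrix.mul_one, ← Matrix.mul_assoc,
            gl_inv_mul, Matrix.one_mul]
  have hH' : (PU.val.map τ)ᵀ * PU.val = (ε * θ) • A⁻¹.val.map ι := by
    have := congrArg Matrix.transpose hH
    rw [Matrix.transpose_mul, Matrix.transpose_transpose, hN₀, Matrix.transpose_smul,
      ← imap_transpose, hB, imap_smul, hεε, smul_smul, mul_comm θ ε] at this
    exact this
  have hεθ0 : ε * θ ≠ 0 := mul_ne_zero hε0 hθ0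
  have hH'' : PU.val * A.val.map ι * (PU.val.map τ)ᵀ =
      (ε * θ) • (1 : Matrix (Fin n) (Fin n) F) := by
    have e1 : ((ε * θ)⁻¹ • (PU.val.map τ)ᵀ) * (PU.val * A.val.map ι) = 1 := by
      rw [Matrix.smul_mul, ← Matrix.mul_assoc, hH', Matrix.smul_mul, smul_smul,
        inv_mul_cancel₀ hεθ0, one_smul, ← imap_mul, gl_inv_mul, imap_one]
    have e2 := _root_.mul_eq_one_comm.1 e1
    rw [Matrix.mul_smul] at e2
    calc PU.val * A.val.map ι * (PU.val.map τ)ᵀ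
        = (ε * θ) • ((ε * θ)⁻¹ • (PU.val * A.val.map ι * (PU.val.map τ)ᵀ)) := by
          rw [smul_smul, mul_inv_cancel₀ hεθ0, one_smul]
      _ = _ := by rw [e2]
  obtain ⟨c, hc0, hc⟩ := norm_surj_two τ hτ2 hτ1 (θ * θ) (mul_ne_zero hθ0 hθ0) (by
    rw [map_mul, hθ]
    linear_combination (θ * θ) * hε2)
  obtain ⟨gM, hgM⟩ : ∃ gM, gM = c⁻¹ • (PU.val * A.val.map ι * PU.valᵀ) := ⟨_, rfl⟩
  have hgt : gMᵀ = ε • gM := by
    rw [hgM, Matrix.transpose_smul, Matrix.transpose_mul, Matrix.transpose_mul,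
      Matrix.transpose_transpose, ← imap_transpose, hA, imap_smul, hεε]
    simp only [Matrix.smul_mul, Matrix.mul_smul, Matrix.mul_assoc]
    rw [smul_comm]
  have hga : gM * PU.val.map τ = (c⁻¹ * θ) • PU.val := by
    rw [hgM, Matrix.smul_mul, Matrix.mul_assoc, hH, hN₀, Matrix.mul_smul, Matrix.mul_assoc,
      ← imap_mul, gl_mul_inv, imap_one, Matrix.mul_one, smul_smul]
  have hgu : gM * (gM.map τ)ᵀ = 1 := by
    have e1 : (gM.map τ)ᵀ = ((τ c)⁻¹ * ε) •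
        (PU.val.map τ * A.val.map ι * (PU.val.map τ)ᵀ) := by
      rw [← tmap_transpose, hgt, tmap_smul, hτε, hgM, tmap_smul, map_inv₀, tmap_mul, tmap_mul,
        tmap_imap ι τ hfix, tmap_transpose, smul_smul, mul_comm]
    have e2 : PU.val * A.val.map ι * PU.valᵀ *
        (PU.val.map τ * A.val.map ι * (PU.val.map τ)ᵀ) =
        (θ * (ε * θ)) • (1 : Matrix (Fin n) (Fin n) F) := by
      calc PU.val * A.val.map ι * PU.valᵀ * (PU.val.map τ * A.val.map ι * (PU.val.map τ)ᵀ)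
          = PU.val * A.val.map ι * (PU.valᵀ * PU.val.map τ) * A.val.map ι *
              (PU.val.map τ)ᵀ := by simp only [Matrix.mul_assoc]
        _ = θ • (PU.val * (A.val.map ι * A⁻¹.val.map ι) * A.val.map ι *
              (PU.val.map τ)ᵀ) := by
            rw [hH, hN₀]
            simp only [Matrix.mul_smul, Matrix.smul_mul, Matrix.mul_assoc]
        _ = _ := by rw [← imap_mul, gl_mul_inv, imap_one, Matrix.mul_one, hH'', smul_smul]
    rw [e1, hgM, Matrix.smul_mul, Matrix.mul_smul, smul_smul, e2, smul_smul]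
    have hτc0 : τ c ≠ 0 := (map_ne_zero τ).2 hc0
    have : c⁻¹ * ((τ c)⁻¹ * ε) * (θ * (ε * θ)) = 1 := by
      field_simp
      linear_combination (θ * θ) * hε2 - hc
    rw [this, one_smul]
  have hgU : IsUnit gM :=
    (Matrix.isUnit_iff_isUnit_det _).2 (Matrix.isUnit_det_of_right_inverse hgu)
  refine ⟨hgU.unit, PU, ?_, ?_, ⟨Units.mk0 (c⁻¹ * θ) (mul_ne_zero (inv_ne_zero hc0) hθ0), ?_⟩,
    Units.mk0 c hc0, ?_⟩
  · rw [IsUnit.unit_spec]
    exact hgu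
  · rw [IsUnit.unit_spec]
    exact hgt
  · rw [IsUnit.unit_spec, Units.val_mk0]
    exact hga
  · rw [IsUnit.unit_spec, Units.val_mk0, hgM, smul_smul, mul_inv_cancel₀ hc0, one_smul]

end finite

end Cfsg.Agent.Lib.Helper8.UGr
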