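import Cfsg.Agent.Lib.Helper8.UGr.Transfer
import Cfsg.Agent.Lib.Helper8.GrInv.CharTwoCent
import Mathlib

/-!
# The standard graph automorphism `PhU τ` of `PSU_n(q)`, `4 ∣ n`, `q` odd (helper8)

It corresponds to the inverse-transpose automorphism `Γ` of `PSL_n(q)`, whose form is the sum of
squares, of plus type when `4 ∣ n`.
-/

set_option autoImplicit false
set_option linter.unusedSectionVars false

namespace Cfsg.Agent.Lib.Helper8.UGr

open Matrix Cfsg Cfsg.Agent.AutPSLCount Cfsg.Agent.Lib.H7AutPSL Cfsg.Agent.Lib.H7GraphInv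
open Cfsg.Agent.Lib.H7AutPSU Cfsg.Agent.Lib.H7AutPSp Cfsg.Agent.Lib.Helper8.GrInv
open Cfsg.Agent.Lib.Helper8.QType

universe u v

theorem eps2_pow_even (F : Type u) [Field F] {k : ℕ} (hk : Even k) : eps2 F ^ k = 1 := by
  classical
  unfold eps2
  split_ifs
  · exact one_pow k
  · exact hk.neg_one_pow

/-- the centraliser of the inverse-transpose automorphism of `PSL_n(F)`, `4 ∣ n`, `|F|` odd -/
theorem cent_Gamma_plus {F : Type u} [Field F] [Fintype F] (hodd : Odd (Fintype.card F))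
    {n m : ℕ} (hm : 2 ≤ m) (hnm : n = 2 * m) (h4 : 4 ∣ n) :
    Nonempty (↥(Cfsg.inndiagPSL n F ⊓
      Subgroup.centralizer {(Dh (1 : GL (Fin n) F) * Γ : MulAut (PSLn n F))}) ≃*
        Cfsg.PGO F (Cfsg.quadFormPlus m F)) := by
  classical
  subst hnm
  obtain ⟨l, rfl⟩ : ∃ l, m = l + 1 := ⟨m - 1, by omega⟩
  have hn2 : 2 ≤ 2 * (l + 1) := by omega
  have h2 : (2 : F) ≠ 0 := by
    intro h
    have h1 : ringChar F = 2 := CharP.ringChar_of_prime_eq_zero Nat.prime_two h
    have h3 := FiniteField.even_card_iff_char_two.1 h1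
    rw [Nat.odd_iff] at hodd
    omega
  let rP : Fin (2 * (l + 1)) ≃ Fin (l + 1) ⊕ Fin (l + 1) :=
    Fintype.equivOfCardEq (by simp only [Fintype.card_fin, Fintype.card_sum]; omega)
  have hTP := hasType_QP (F := F) l
  have hA₂ := stdA_symm rP h2 _ hTP
  have hev : Even (l + 1) := by
    obtain ⟨k, hk⟩ := h4
    exact ⟨k, by omega⟩
  have hdot : HasType (qf ((1 : GL (Fin (2 * (l + 1))) F)⁻¹).val) l 1 := by
    have h := hasType_dot (F := F) h2 l (2 * (l + 1)) (by ring)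
    rw [eps2_pow_even F hev] at h
    rw [inv_one, Units.val_one]
    exact h
  have hconj := conj_of_hasType hn2 h2 (stdA rP h2 _ hTP) 1 hA₂
    (by rw [Units.val_one, Matrix.transpose_one]) (hasType_stdA rP h2 _ hTP) hdot
  obtain ⟨e1⟩ := cent_equiv_of_conj _ _ _ hconj
  obtain ⟨e2⟩ := cent_stdA rP hn2 h2 _ hTP (Cfsg.quadFormPlus (l + 1) F)
    (fun w => (Cfsg.Agent.S0287.QP_apply (l + 1) w).symm)
  exact ⟨e1.symm.trans e2⟩

/-- the identity matrices are related -/
theorem rel_one {n : ℕ} {F : Type u} [Field F] {F₀ : Type v} [Field F₀] (ι : F₀ →+* F)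
    (τ : RingAut F) {q : ℕ} :
    Rel ι τ (1 : ↥(Cfsg.GU n F q)).1.val (1 : GL (Fin n) F₀).val (1 : GL (Fin n) F) := by
  have h1 : ((1 : ↥(Cfsg.GU n F q)).1.val : Matrix (Fin n) (Fin n) F) = 1 := rfl
  refine ⟨⟨1, ?_⟩, 1, ?_⟩
  · rw [h1, Units.val_one, Units.val_one, tmap_one, Matrix.one_mul, one_smul]
  · rw [h1, Units.val_one, Units.val_one, Units.val_one, imap_one, Matrix.one_mul,
      Matrix.transpose_one, Matrix.one_mul, one_smul]

end Cfsg.Agent.Lib.Helper8.UGr
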