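import Cfsg.Agent.Lib.Helper8.UGr.Transfer
import Mathlib

/-!
# Centralising unitary matrices of a graph involution of `PSU_n(q)`, with multipliers (helper8)

With descent data `Rel ι τ g A P`, the unitary matrices `h` with `h g hᵀ ∝ g` are exactly the
`μ • P ι(h₀) P⁻¹` with `h₀ A h₀ᵀ = d A` and `μ τ(μ) ι(d) = 1`.
-/

set_option autoImplicit false
set_option linter.unusedSectionVars false

namespace Cfsg.Agent.Lib.Helper8.UGr

open Matrix Cfsg Cfsg.Agent.AutPSLCount Cfsg.Agent.Lib.H7AutPSL Cfsg.Agent.Lib.H7GraphInv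
open Cfsg.Agent.Lib.H7AutPSU Cfsg.Agent.Lib.H7AutPSp Cfsg.Agent.Lib.Helper8.GrInv

universe u v

variable {n : ℕ} {F : Type u} [Field F] {F₀ : Type v} [Field F₀]

/-- the lift of a similarity of `A`, before scaling -/
theorem sim_lift_facts (ι : F₀ →+* F) (τ : RingAut F) (hfix : ∀ t : F, τ t = t ↔ ∃ s, ι s = t)
    {g : GL (Fin n) F} {A : GL (Fin n) F₀} {P : GL (Fin n) F} (hR : Rel ι τ g.val A.val P)
    (h₀ : Matrix (Fin n) (Fin n) F₀) (d : F₀) (hc : h₀ * A.val * h₀ᵀ = d • A.val)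
    (h₁ : Matrix (Fin n) (Fin n) F) (hh₁ : h₁ = P.val * h₀.map ι * P⁻¹.val) :
    h₁ * g.val * h₁ᵀ = ι d • g.val ∧
      h₁ * (h₁.map τ)ᵀ = ι d • (1 : Matrix (Fin n) (Fin n) F) := by
  obtain ⟨⟨κ, hκ⟩, c, hcg⟩ := hR
  have h1P : h₁ * P.val = P.val * h₀.map ι := by
    rw [hh₁, Matrix.mul_assoc, gl_inv_mul, Matrix.mul_one]
  have hS1 : (c : F) • (h₁ * g.val * h₁ᵀ) = (ι d * c) • g.val := by
    calc (c : F) • (h₁ * g.val * h₁ᵀ) = h₁ * ((c : F) • g.val) * h₁ᵀ := by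
          rw [Matrix.mul_smul, Matrix.smul_mul]
      _ = (h₁ * P.val) * A.val.map ι * (h₁ * P.val)ᵀ := by
          rw [← hcg, Matrix.transpose_mul]; simp only [Matrix.mul_assoc]
      _ = P.val * (h₀ * A.val * h₀ᵀ).map ι * P.valᵀ := by
          rw [h1P, Matrix.transpose_mul, imap_mul, imap_mul, imap_transpose]
          simp only [Matrix.mul_assoc]
      _ = _ := by
          rw [hc, imap_smul, Matrix.mul_smul, Matrix.smul_mul, hcg, smul_smul]
  have hS1' : h₁ * g.val * h₁ᵀ = ι d • g.val := by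
    calc h₁ * g.val * h₁ᵀ = (c : F)⁻¹ • ((c : F) • (h₁ * g.val * h₁ᵀ)) := by
          rw [smul_smul, inv_mul_cancel₀ c.ne_zero, one_smul]
      _ = _ := by
          rw [hS1, smul_smul, mul_comm (ι d), ← mul_assoc, inv_mul_cancel₀ c.ne_zero, one_mul]
  refine ⟨hS1', ?_⟩
  have hPP : P.val.map τ * P⁻¹.val.map τ = 1 := by rw [← tmap_mul, gl_mul_inv, tmap_one]
  have hS3 : g.val * h₁.map τ = h₁ * g.val := by
    have e1 : g.val * h₁.map τ * P.val.map τ = (κ : F) • (h₁ * P.val) := by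
      rw [Matrix.mul_assoc, ← tmap_mul, h1P, tmap_mul, tmap_imap ι τ hfix, ← Matrix.mul_assoc,
        hκ, Matrix.smul_mul]
    have e2 : h₁ * g.val * P.val.map τ = (κ : F) • (h₁ * P.val) := by
      rw [Matrix.mul_assoc, hκ, Matrix.mul_smul]
    calc g.val * h₁.map τ = g.val * h₁.map τ * (P.val.map τ * P⁻¹.val.map τ) := by
          rw [hPP, Matrix.mul_one]
      _ = (g.val * h₁.map τ * P.val.map τ) * P⁻¹.val.map τ := by rw [← Matrix.mul_assoc]
      _ = (h₁ * g.val * P.val.map τ) * P⁻¹.val.map τ := by rw [e1, e2]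
      _ = _ := by rw [Matrix.mul_assoc, hPP, Matrix.mul_one]
  have hS4 : h₁.map τ * h₁ᵀ = ι d • (1 : Matrix (Fin n) (Fin n) F) := by
    have e1 : g.val * (h₁.map τ * h₁ᵀ) = ι d • g.val := by
      rw [← Matrix.mul_assoc, hS3, hS1']
    calc h₁.map τ * h₁ᵀ = g⁻¹.val * (g.val * (h₁.map τ * h₁ᵀ)) := by
          rw [← Matrix.mul_assoc, gl_inv_mul, Matrix.one_mul]
      _ = _ := by rw [e1, Matrix.mul_smul, gl_inv_mul]
  have := congrArg Matrix.transpose hS4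
  rw [Matrix.transpose_mul, Matrix.transpose_transpose, Matrix.transpose_smul,
    Matrix.transpose_one] at this
  exact this

theorem det_conj_imap (ι : F₀ →+* F) (P : GL (Fin n) F) (h₀ : Matrix (Fin n) (Fin n) F₀) :
    (P.val * h₀.map ι * P⁻¹.val).det = ι h₀.det := by
  rw [Matrix.det_mul, Matrix.det_mul, imap_det, mul_comm, ← mul_assoc, ← Matrix.det_mul,
    gl_inv_mul, Matrix.det_one, one_mul]

section finite

variable [Fintype F] {q : ℕ} (hF : Fintype.card F = q ^ 2) (hn : 3 ≤ n)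
  (hs : ¬ (n = 3 ∧ q = 2)) (τ : RingAut F) (hτ : ∀ t, τ t = t ^ q) (ι : F₀ →+* F)
  (hfix : ∀ t : F, τ t = t ↔ ∃ s, ι s = t)
  {g : ↥(Cfsg.GU n F q)} {A : GL (Fin n) F₀} {P : GL (Fin n) F}
  (hR : Rel ι τ g.1.val A.val P)

include hF hn hs hτ hfix hR in
/-- **descent of a centralising unitary matrix, with its multiplier** -/
theorem descend_cent (h : ↥(Cfsg.GU n F q))
    (hh : h ∈ centGU (DhU g * PhU τ : MulAut (PSUn n F q))) :
    ∃ (h₀ : GL (Fin n) F₀) (μ : Fˣ) (d : F₀ˣ),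
      h₀.val * A.val * h₀.valᵀ = (d : F₀) • A.val ∧
      h.1.val.det = (μ : F) ^ n * ι h₀.val.det ∧ (μ : F) * τ μ * ι d = 1 := by
  obtain ⟨a, ha⟩ := (mem_centGU_graph hF hn hs τ hτ g h).1 hh
  obtain ⟨h₀, μ, d, hk, hd⟩ := descend_conj ι τ hfix (by omega) hR hR h.1 (GU_map τ hτ h) a ha
  obtain ⟨h₁, hh₁⟩ : ∃ h₁, h₁ = P.val * h₀.val.map ι * P⁻¹.val := ⟨_, rfl⟩
  obtain ⟨-, hun⟩ := sim_lift_facts ι τ hfix hR h₀.val d hd h₁ hh₁
  have hval : h.1.val = (μ : F) • h₁ := by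
    have e2 : h₀.val.map ι = (μ : F)⁻¹ • (P⁻¹.val * h.1.val * P.val) := by
      rw [hk, smul_smul, inv_mul_cancel₀ μ.ne_zero, one_smul]
    rw [hh₁, e2, Matrix.mul_smul, Matrix.smul_mul, smul_smul, mul_inv_cancel₀ μ.ne_zero, one_smul]
    simp only [Matrix.mul_assoc]
    rw [gl_mul_inv, Matrix.mul_one, ← Matrix.mul_assoc, gl_mul_inv, Matrix.one_mul]
  refine ⟨h₀, μ, d, hd, ?_, ?_⟩
  · rw [hval, Matrix.det_smul, Fintype.card_fin, hh₁, det_conj_imap]
  · have h1 := GU_mul_transpose τ hτ h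
    rw [hval, tmap_smul, Matrix.transpose_smul, Matrix.smul_mul, Matrix.mul_smul, smul_smul, hun,
      smul_smul] at h1
    have := congrFun (congrFun h1 ⟨0, by omega⟩) ⟨0, by omega⟩
    rw [Matrix.smul_apply, Matrix.one_apply_eq, smul_eq_mul, mul_one] at this
    exact this

include hF hn hs hτ hfix hR in
/-- **lifting a similarity with a prescribed scalar** -/
theorem lift_cent (h₀ : GL (Fin n) F₀) (d : F₀ˣ)
    (hd : h₀.val * A.val * h₀.valᵀ = (d : F₀) • A.val) (μ : F) (hμ : μ * τ μ * ι d = 1) :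
    ∃ h : ↥(Cfsg.GU n F q), h ∈ centGU (DhU g * PhU τ : MulAut (PSUn n F q)) ∧
      h.1.val.det = μ ^ n * ι h₀.val.det := by
  obtain ⟨h₁, hh₁⟩ : ∃ h₁, h₁ = P.val * h₀.val.map ι * P⁻¹.val := ⟨_, rfl⟩
  obtain ⟨hsim, hun⟩ := sim_lift_facts ι τ hfix hR h₀.val d hd h₁ hh₁
  have hμ0 : μ ≠ 0 := by
    rintro rfl
    rw [zero_mul, zero_mul] at hμ
    exact zero_ne_one hμ
  have hunit : (μ • h₁) * ((μ • h₁).map τ)ᵀ = 1 := by
    rw [tmap_smul, Matrix.transpose_smul, Matrix.smul_mul, Matrix.mul_smul, smul_smul, hun,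
      smul_smul, hμ, one_smul]
  have hU : IsUnit (μ • h₁) :=
    (Matrix.isUnit_iff_isUnit_det _).2 (Matrix.isUnit_det_of_right_inverse hunit)
  refine ⟨⟨hU.unit, (mem_GU_iff τ q hτ _).2 (by rw [IsUnit.unit_spec]; exact hunit)⟩, ?_, ?_⟩
  · rw [mem_centGU_graph hF hn hs τ hτ]
    refine ⟨Units.mk0 (μ * μ * ι d) (mul_ne_zero (mul_ne_zero hμ0 hμ0)
      ((map_ne_zero ι).2 d.ne_zero)), ?_⟩
    show hU.unit.val * g.1.val * (hU.unit.val)ᵀ = _
    rw [IsUnit.unit_spec, Units.val_mk0, Matrix.transpose_smul, Matrix.smul_mul, Matrix.smul_mul,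
      Matrix.mul_smul, smul_smul, hsim, smul_smul]
  · show hU.unit.val.det = _
    rw [IsUnit.unit_spec, Matrix.det_smul, Fintype.card_fin, hh₁, det_conj_imap]

end finite

end Cfsg.Agent.Lib.Helper8.UGr
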