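import Cfsg.Agent.Lib.Helper8.UGr.SplitU1
import Cfsg.Agent.Lib.Helper8.GrInv.SplitE
import Cfsg.Agent.Lib.Helper7.AutPSU.FieldCentU
import Cfsg.Agent.Lib.Helper7.AutPSL.FieldCount
import Mathlib

/-!
# Class splitting of involutory graph automorphisms of `PSU_n(q)` (helper8)

The determinants of the centralising unitary matrices, as a subgroup of the norm-one group, and
its index.
-/

set_option autoImplicit false
set_option linter.unusedSectionVars false

namespace Cfsg.Agent.Lib.Helper8.UGr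

open Matrix Cfsg Cfsg.Agent.AutPSLCount Cfsg.Agent.Lib.H7AutPSL Cfsg.Agent.Lib.H7GraphInv
open Cfsg.Agent.Lib.H7AutPSU Cfsg.Agent.Lib.H7AutPSp Cfsg.Agent.Lib.Helper8.GrInv
open Cfsg.Agent.S0278 Cfsg.Agent.S0783

universe u v

/-! ### generalities on commutative groups -/

theorem pow_of_sq_odd {G : Type*} [CommGroup G] (x a : G) (n : ℕ) (hodd : Odd n)
    (h : x ^ 2 = a ^ n) : x ∈ (powMonoidHom n : G →* G).range := by
  obtain ⟨k, rfl⟩ := hodd
  refine ⟨x * (a ^ k)⁻¹, ?_⟩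
  rw [powMonoidHom_apply, mul_pow, inv_pow, ← pow_mul]
  have e : a ^ (k * (2 * k + 1)) = x ^ (2 * k) := by
    rw [mul_comm k, pow_mul, ← h, ← pow_mul]
  rw [e, pow_succ, mul_comm (x ^ (2 * k)) x, mul_assoc, mul_inv_cancel, mul_one]

theorem pow_of_sq_oddCard {G : Type*} [CommGroup G] [Finite G] (hG : Odd (Nat.card G))
    (x a : G) (n : ℕ) (h : x ^ 2 = a ^ n) : x ∈ (powMonoidHom n : G →* G).range := by
  obtain ⟨k, hk⟩ := hG
  refine ⟨a ^ (k + 1), ?_⟩
  rw [powMonoidHom_apply, ← pow_mul]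
  obtain ⟨z, hz⟩ : ∃ z, z = a ^ ((k + 1) * n) * x⁻¹ := ⟨_, rfl⟩
  have hx : x ^ (2 * k + 1) = 1 := by rw [← hk]; exact pow_card_eq_one'
  have hz2 : z ^ 2 = 1 := by
    rw [hz, mul_pow, inv_pow, ← pow_mul]
    have e : a ^ ((k + 1) * n * 2) = x ^ ((2 * k + 1) * 2) * x ^ 2 := by
      have e1 : (k + 1) * n * 2 = n * (2 * k + 2) := by ring
      have e2 : (2 * k + 1) * 2 + 2 = 2 * (2 * k + 2) := by ring
      rw [← pow_add, e1, e2, pow_mul, ← h, ← pow_mul]
    rw [e, pow_mul, hx, one_pow, one_mul, mul_inv_cancel]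
  have hzc : z ^ (2 * k + 1) = 1 := by rw [← hk]; exact pow_card_eq_one'
  have hz1 : z = 1 := by
    rw [pow_succ, pow_mul, hz2, one_pow, one_mul] at hzc
    exact hzc
  rw [hz1] at hz
  exact (mul_inv_eq_one.1 hz.symm)

/-- the index of `⟨z⟩ · Gᵐ` in a cyclic group of even order, `z` the involution -/
theorem index_pm_pow_cyclic {G : Type*} [CommGroup G] [IsCyclic G] [Finite G] (w : ℕ)
    (hG : Nat.card G = w * 2) (z : G) (hz : orderOf z = 2) (m : ℕ) :
    (Subgroup.zpowers z ⊔ (powMonoidHom m : G →* G).range).index =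
      Nat.gcd (2 * m) (w * 2) / 2 := by
  have hcard : Nat.card (Subgroup.zpowers z) = 2 := by rw [Nat.card_zpowers, hz]
  rw [cyclic_subgroup_eq_range_pow (Subgroup.zpowers z) 2 w hcard hG,
    range_pow_sup_range_pow, IsCyclic.index_powMonoidHom_range, hG]
  rw [mul_comm w 2, Nat.gcd_mul_left, Nat.mul_div_cancel_left _ (by norm_num : 0 < 2)]
  rw [Nat.gcd_comm w m]
  apply Nat.gcd_eq_right
  exact (Nat.gcd_dvd_right m w).trans (dvd_mul_left w 2)

variable {n : ℕ} {F : Type u} [Field F] [Fintype F] {F₀ : Type v} [Field F₀] {q : ℕ}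

/-! ### norm-one elements -/

/-- a norm-one element of the field, as an element of the norm-one group -/
noncomputable def mkN1 (τ : RingAut F) (hτ : ∀ t, τ t = t ^ q) (a : F) (ha : a * τ a = 1) :
    ↥(N1 F q) :=
  ⟨Units.mk0 a (by
    rintro rfl
    rw [zero_mul] at ha
    exact zero_ne_one ha), (mem_N1 _).2 ((norm_one_iff τ hτ a).1 ha)⟩

theorem mkN1_val (τ : RingAut F) (hτ : ∀ t, τ t = t ^ q) (a : F) (ha : a * τ a = 1) :
    (((mkN1 τ hτ a ha : ↥(N1 F q)) : Fˣ) : F) = a := rfl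

theorem N1_norm (τ : RingAut F) (hτ : ∀ t, τ t = t ^ q) (x : ↥(N1 F q)) :
    ((x : Fˣ) : F) * τ ((x : Fˣ) : F) = 1 :=
  (norm_one_iff τ hτ _).2 ((mem_N1 _).1 x.2)

theorem N1_ext {x y : ↥(N1 F q)} (h : ((x : Fˣ) : F) = ((y : Fˣ) : F)) : x = y :=
  Subtype.ext (Units.ext h)

theorem N1_pow_val (x : ↥(N1 F q)) (k : ℕ) :
    (((x ^ k : ↥(N1 F q)) : Fˣ) : F) = ((x : Fˣ) : F) ^ k := by
  rw [Subgroup.coe_pow, Units.val_pow_eq_pow_val]

theorem N1_mul_val (x y : ↥(N1 F q)) :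
    (((x * y : ↥(N1 F q)) : Fˣ) : F) = ((x : Fˣ) : F) * ((y : Fˣ) : F) := rfl

section finite

variable (hF : Fintype.card F = q ^ 2) (hn : 3 ≤ n) (hs : ¬ (n = 3 ∧ q = 2))
  (τ : RingAut F) (hτ : ∀ t, τ t = t ^ q)

include hF hn hs hτ in
/-- the multiplier of a centralising unitary matrix has norm one -/
theorem mult_norm_one (g h : ↥(Cfsg.GU n F q)) (a : Fˣ)
    (ha : h.1.val * g.1.val * h.1.valᵀ = (a : F) • g.1.val) : (a : F) * τ a = 1 := by
  have h1 := GU_mul_transpose τ hτ (h * g * gmapU τ h⁻¹)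
  rw [graphU_conj_val τ hτ, ha, tmap_smul, Matrix.transpose_smul, Matrix.smul_mul,
    Matrix.mul_smul, smul_smul, GU_mul_transpose τ hτ g] at h1
  have := congrFun (congrFun h1 ⟨0, by omega⟩) ⟨0, by omega⟩
  rw [Matrix.smul_apply, Matrix.one_apply_eq, smul_eq_mul, mul_one] at this
  exact this

include hF hn hs hτ in
/-- the scalar unitary matrices centralise -/
theorem scalar_mem_centGU (g : ↥(Cfsg.GU n F q)) (y : ↥(N1 F q)) :
    ∃ z : ↥(Cfsg.GU n F q), z ∈ centGU (DhU g * PhU τ : MulAut (PSUn n F q)) ∧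
      detN1 hF n z = y ^ n := by
  obtain ⟨z, hz⟩ := exists_scalarU (n := n) τ hτ ((y : Fˣ) : F) (N1_norm τ hτ y)
  refine ⟨z, ?_, ?_⟩
  · rw [mem_centGU_graph hF hn hs τ hτ]
    refine ⟨(y : Fˣ) * (y : Fˣ), ?_⟩
    rw [hz, Matrix.transpose_smul, Matrix.transpose_one, Matrix.smul_mul, Matrix.one_mul,
      Matrix.mul_smul, Matrix.mul_one, smul_smul, Units.val_mul]
  · apply N1_ext
    rw [detN1_val, hz, det_smul_one, N1_pow_val]

include hF hn hs hτ in
/-- **odd dimension or even characteristic**: the determinants are the `n`-th powers -/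
theorem detU_caseA (hcase : Odd n ∨ Odd (q + 1)) (g : ↥(Cfsg.GU n F q)) :
    (centGU (DhU g * PhU τ : MulAut (PSUn n F q))).map (detN1 hF n) =
      (powMonoidHom n : ↥(N1 F q) →* ↥(N1 F q)).range := by
  apply le_antisymm
  · rintro _ ⟨h, hh, rfl⟩
    obtain ⟨a, ha⟩ := (mem_centGU_graph hF hn hs τ hτ g h).1 hh
    have haN := mult_norm_one hF hn hs τ hτ g h a ha
    have hsq : (detN1 hF n h) ^ 2 = (mkN1 τ hτ (a : F) haN) ^ n := by
      apply N1_ext
      rw [N1_pow_val, N1_pow_val, detN1_val, mkN1_val]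
      have h1 := congrArg Matrix.det ha
      rw [Matrix.det_mul, Matrix.det_mul, Matrix.det_transpose, Matrix.det_smul,
        Fintype.card_fin] at h1
      have hgd : g.1.val.det ≠ 0 :=
        ((Matrix.isUnit_iff_isUnit_det g.1.val).1 g.1.isUnit).ne_zero
      apply mul_right_cancel₀ hgd
      rw [← h1]
      ring
    rcases hcase with ho | ho
    · exact pow_of_sq_odd _ _ n ho hsq
    · exact pow_of_sq_oddCard (by rw [card_N1 hF]; exact ho) _ _ n hsq
  · rintro _ ⟨y, rfl⟩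
    obtain ⟨z, hz, hzd⟩ := scalar_mem_centGU hF hn hs τ hτ g y
    exact ⟨z, hz, hzd⟩

variable (ι : F₀ →+* F) (hfix : ∀ t : F, τ t = t ↔ ∃ s, ι s = t)
  {g : ↥(Cfsg.GU n F q)} {A : GL (Fin n) F₀} {P : GL (Fin n) F}
  (hR : Rel ι τ g.1.val A.val P)

include hF hn hs hτ hfix hR in
/-- the determinants of the centralising matrices, through the descent -/
theorem mem_detU_iff (x : ↥(N1 F q)) :
    x ∈ (centGU (DhU g * PhU τ : MulAut (PSUn n F q))).map (detN1 hF n) ↔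
      ∃ (h₀ : GL (Fin n) F₀) (d : F₀ˣ) (μ : F),
        h₀.val * A.val * h₀.valᵀ = (d : F₀) • A.val ∧ μ * τ μ * ι d = 1 ∧
        ((x : Fˣ) : F) = μ ^ n * ι h₀.val.det := by
  constructor
  · rintro ⟨h, hh, rfl⟩
    obtain ⟨h₀, μ, d, hd, hdet, hμ⟩ := descend_cent hF hn hs τ hτ ι hfix hR h hh
    exact ⟨h₀, d, μ, hd, hμ, by rw [detN1_val, hdet]⟩
  · rintro ⟨h₀, d, μ, hd, hμ, hx⟩
    obtain ⟨h, hh, hdet⟩ := lift_cent hF hn hs τ hτ ι hfix hR h₀ d hd μ hμ
    refine ⟨h, hh, ?_⟩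
    apply N1_ext
    rw [detN1_val, hdet, hx]

include hfix in
/-- the norm-one element attached to a pair `(μ, d)` -/
theorem pair_norm (μ : F) (d : F₀) (hμ : μ * τ μ * ι d = 1) :
    (μ * μ * ι d) * τ (μ * μ * ι d) = 1 := by
  have hd : τ (ι d) = ι d := (hfix _).2 ⟨d, rfl⟩
  rw [map_mul, map_mul, hd]
  calc μ * μ * ι d * (τ μ * τ μ * ι d) = (μ * τ μ * ι d) * (μ * τ μ * ι d) := by ring
    _ = 1 := by rw [hμ, one_mul]

include hF hτ hfix in
/-- Hilbert 90: a norm-one element comes from a pair -/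
theorem exists_pair (y : ↥(N1 F q)) :
    ∃ (μ : F) (d : F₀ˣ), μ * τ μ * ι d = 1 ∧ μ * μ * ι d = ((y : Fˣ) : F) := by
  have hτ2 := frob_sq hF τ hτ
  have hτ1 := frob_ne_one hF τ hτ
  have hy := N1_norm τ hτ y
  obtain ⟨b, hb0, hb⟩ := hilbert90_field τ 2 (by norm_num) hτ2 (two_inj hτ1) ((y : Fˣ) : F)
    (by rw [fnorm_two]; exact hy)
  have hτb0 : τ b ≠ 0 := (map_ne_zero τ).2 hb0
  have hfixed : τ ((b * τ b)⁻¹) = (b * τ b)⁻¹ := by
    rw [map_inv₀, map_mul, frob_frob hF τ hτ, mul_comm]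
  obtain ⟨d, hd⟩ := (hfix _).1 hfixed
  have hd0 : d ≠ 0 := by
    rintro rfl
    rw [map_zero] at hd
    exact inv_ne_zero (mul_ne_zero hb0 hτb0) hd.symm
  refine ⟨b, Units.mk0 d hd0, ?_, ?_⟩
  · rw [Units.val_mk0, hd, mul_inv_cancel₀ (mul_ne_zero hb0 hτb0)]
  · have hy' : ((y : Fˣ) : F) = b / τ b := by
      rw [eq_div_iff hτb0]
      exact hb
    rw [Units.val_mk0, hd, hy']
    field_simp

end finite

end Cfsg.Agent.Lib.Helper8.UGr
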