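import Cfsg.Agent.Lib.Helper8.UGr.SplitU2
import Mathlib

/-!
# Class splitting of involutory graph automorphisms of `PSU_n(q)`: the counts (helper8)
-/

set_option autoImplicit false
set_option linter.unusedSectionVars false

namespace Cfsg.Agent.Lib.Helper8.UGr

open Matrix Cfsg Cfsg.Agent.AutPSLCount Cfsg.Agent.Lib.H7AutPSL Cfsg.Agent.Lib.H7GraphInv
open Cfsg.Agent.Lib.H7AutPSU Cfsg.Agent.Lib.H7AutPSp Cfsg.Agent.Lib.Helper8.GrInv
open Cfsg.Agent.S0278 Cfsg.Agent.S0783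

universe u v

variable {n : ℕ} {F : Type u} [Field F] [Fintype F] {F₀ : Type v} [Field F₀] {q : ℕ}

theorem pair_pow (ι : F₀ →+* F) (μ : F) (d : F₀) (m : ℕ) :
    μ ^ (2 * m) * ι (d ^ m) = (μ * μ * ι d) ^ m := by
  rw [map_pow, pow_mul, ← mul_pow, pow_two]

/-- the symmetry type passes to the descended matrix -/
theorem rel_transpose (ι : F₀ →+* F) (τ : RingAut F) {g : Matrix (Fin n) (Fin n) F}
    {A : GL (Fin n) F₀} {P : GL (Fin n) F} (hR : Rel ι τ g A.val P) (ε : F) (ε₀ : F₀)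
    (hεε : ι ε₀ = ε) (hg : gᵀ = ε • g) : A.valᵀ = ε₀ • A.val := by
  obtain ⟨-, c, hc⟩ := hR
  apply imap_injective ι
  apply cancel_congr P
  have h1 := congrArg Matrix.transpose hc
  rw [Matrix.transpose_mul, Matrix.transpose_mul, Matrix.transpose_transpose,
    Matrix.transpose_smul, hg, ← Matrix.mul_assoc] at h1
  rw [imap_transpose, h1, imap_smul, hεε, Matrix.mul_smul, Matrix.smul_mul, hc, smul_comm]

section finite

variable (hF : Fintype.card F = q ^ 2) (hn : 3 ≤ n) (hs : ¬ (n = 3 ∧ q = 2))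
  (τ : RingAut F) (hτ : ∀ t, τ t = t ^ q) (ι : F₀ →+* F)
  (hfix : ∀ t : F, τ t = t ↔ ∃ s, ι s = t)
  {g : ↥(Cfsg.GU n F q)} {A : GL (Fin n) F₀} {P : GL (Fin n) F}
  (hR : Rel ι τ g.1.val A.val P)

/-- the element `-1` of the norm-one group -/
noncomputable def negN1 (τ : RingAut F) (hτ : ∀ t, τ t = t ^ q) : ↥(N1 F q) :=
  mkN1 τ hτ (-1) (by rw [map_neg, map_one]; ring)

theorem negN1_val : (((negN1 τ hτ : ↥(N1 F q)) : Fˣ) : F) = -1 := rfl

include hF hn hs hτ hfix hR in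
/-- **symplectic type**: the determinants are the `m`-th powers -/
theorem detU_skew [Fintype F₀] (h2 : (2 : F₀) ≠ 0) {m : ℕ} (hnm : n = 2 * m)
    (hA : A.valᵀ = -A.val) :
    (centGU (DhU g * PhU τ : MulAut (PSUn n F q))).map (detN1 hF n) =
      (powMonoidHom m : ↥(N1 F q) →* ↥(N1 F q)).range := by
  have r : Fin n ≃ Fin m ⊕ Fin m :=
    Fintype.equivOfCardEq (by simp only [Fintype.card_fin, Fintype.card_sum]; omega)
  ext x
  rw [mem_detU_iff hF hn hs τ hτ ι hfix hR]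
  constructor
  · rintro ⟨h₀, d, μ, hd, hμ, hx⟩
    have hdet := det_of_sim_skew r (by omega) h2 A hA h₀ d hd
    refine ⟨mkN1 τ hτ (μ * μ * ι d) (pair_norm τ ι hfix μ d hμ), ?_⟩
    apply N1_ext
    rw [powMonoidHom_apply, N1_pow_val, mkN1_val, hx, hdet, hnm, pair_pow]
  · rintro ⟨y, rfl⟩
    obtain ⟨μ, d, hμ, hy⟩ := exists_pair hF τ hτ ι hfix y
    obtain ⟨E, hE⟩ := exists_sim_skew r (by omega) h2 A hA d
    refine ⟨E, d, μ, hE, hμ, ?_⟩
    rw [powMonoidHom_apply, N1_pow_val, ← hy, det_of_sim_skew r (by omega) h2 A hA E d hE, hnm,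
      pair_pow]

include hF hn hs hτ hfix hR in
/-- **orthogonal types**: the determinants are the `± m`-th powers -/
theorem detU_symm [Fintype F₀] (h2 : (2 : F₀) ≠ 0) {l : ℕ} (hnl : n = 2 * (l + 1))
    (hA : A.valᵀ = A.val) :
    (centGU (DhU g * PhU τ : MulAut (PSUn n F q))).map (detN1 hF n) =
      Subgroup.zpowers (negN1 τ hτ) ⊔
        (powMonoidHom (l + 1) : ↥(N1 F q) →* ↥(N1 F q)).range := by
  have hneg : negN1 τ hτ ∈
      (centGU (DhU g * PhU τ : MulAut (PSUn n F q))).map (detN1 hF n) := by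
    rw [mem_detU_iff hF hn hs τ hτ ι hfix hR]
    obtain ⟨ρ, hρ, hρd⟩ := exists_refl_symm (by omega) h2 A hA
    refine ⟨ρ, 1, 1, by rw [Units.val_one, one_smul]; exact hρ, ?_, ?_⟩
    · rw [map_one, Units.val_one, map_one, mul_one, mul_one]
    · rw [negN1_val, hρd, one_pow, one_mul, map_neg, map_one]
  apply le_antisymm
  · intro x hx
    rw [mem_detU_iff hF hn hs τ hτ ι hfix hR] at hx
    obtain ⟨h₀, d, μ, hd, hμ, hx⟩ := hx
    obtain ⟨y, hy⟩ : ∃ y, y = mkN1 τ hτ (μ * μ * ι d) (pair_norm τ ι hfix μ d hμ) := ⟨_, rfl⟩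
    rcases det_of_sim_symm hnl A h₀ d hd with hdet | hdet
    · have : x = y ^ (l + 1) := by
        apply N1_ext
        rw [N1_pow_val, hy, mkN1_val, hx, hdet, hnl, pair_pow]
      rw [this]
      exact Subgroup.mem_sup_right ⟨y, rfl⟩
    · have : x = negN1 τ hτ * y ^ (l + 1) := by
        apply N1_ext
        rw [N1_mul_val, N1_pow_val, negN1_val, hy, mkN1_val, hx, hdet, hnl, ← pair_pow, map_neg]
        ring
      rw [this]
      exact Subgroup.mul_mem_sup (Subgroup.mem_zpowers _) ⟨y, rfl⟩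
  · rw [sup_le_iff]
    constructor
    · rw [Subgroup.zpowers_le]
      exact hneg
    · rintro _ ⟨y, rfl⟩
      obtain ⟨μ, d, hμ, hy⟩ := exists_pair hF τ hτ ι hfix y
      obtain ⟨E, hE⟩ := exists_sim_symm (by omega) h2 hnl A hA d
      rcases det_of_sim_symm hnl A E d hE with hdet | hdet
      · rw [mem_detU_iff hF hn hs τ hτ ι hfix hR]
        refine ⟨E, d, μ, hE, hμ, ?_⟩
        rw [powMonoidHom_apply, N1_pow_val, ← hy, hdet, hnl, pair_pow]
      · have h1 : negN1 τ hτ * y ^ (l + 1) ∈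
            (centGU (DhU g * PhU τ : MulAut (PSUn n F q))).map (detN1 hF n) := by
          rw [mem_detU_iff hF hn hs τ hτ ι hfix hR]
          refine ⟨E, d, μ, hE, hμ, ?_⟩
          rw [N1_mul_val, N1_pow_val, negN1_val, ← hy, hdet, hnl, ← pair_pow, map_neg]
          ring
        have h2' : (powMonoidHom (l + 1) : ↥(N1 F q) →* ↥(N1 F q)) y =
            negN1 τ hτ * (negN1 τ hτ * y ^ (l + 1)) := by
          rw [powMonoidHom_apply, ← mul_assoc]
          have : negN1 τ hτ * negN1 τ hτ = (1 : ↥(N1 F q)) := by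
            apply N1_ext
            rw [N1_mul_val, negN1_val]
            show (-1 : F) * -1 = 1
            ring
          rw [this, one_mul]
        rw [h2']
        exact Subgroup.mul_mem _ hneg h1

/-! ### the counts -/

include hF hn hs hτ in
theorem countU_A (hcase : Odd n ∨ Odd (q + 1)) (g : ↥(Cfsg.GU n F q)) :
    Cfsg.splitClassCount (Cfsg.inndiagPSU n F q) (Cfsg.Inn (Cfsg.PSU n F q))
      (DhU g * PhU τ) = Nat.gcd n (q + 1) := by
  rw [inndiagPSU_eq, splitClassCount_psu hF (by omega), detU_caseA hF hn hs τ hτ hcase,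
    IsCyclic.index_powMonoidHom_range, card_N1 hF, Nat.gcd_comm]

include hF hn hs hτ hfix hR in
theorem countU_skew [Fintype F₀] (h2 : (2 : F₀) ≠ 0) {m : ℕ} (hnm : n = 2 * m)
    (hA : A.valᵀ = -A.val) :
    Cfsg.splitClassCount (Cfsg.inndiagPSU n F q) (Cfsg.Inn (Cfsg.PSU n F q))
      (DhU g * PhU τ) = Nat.gcd m (q + 1) := by
  rw [inndiagPSU_eq, splitClassCount_psu hF (by omega),
    detU_skew hF hn hs τ hτ ι hfix hR h2 hnm hA,
    IsCyclic.index_powMonoidHom_range, card_N1 hF, Nat.gcd_comm]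

include hF hn hs hτ hfix hR in
theorem countU_symm [Fintype F₀] (hodd : Odd q) (h2 : (2 : F₀) ≠ 0) {l : ℕ}
    (hnl : n = 2 * (l + 1)) (hA : A.valᵀ = A.val) :
    Cfsg.splitClassCount (Cfsg.inndiagPSU n F q) (Cfsg.Inn (Cfsg.PSU n F q))
      (DhU g * PhU τ) = Nat.gcd n (q + 1) / 2 := by
  obtain ⟨w, hw⟩ := hodd
  have hG : Nat.card ↥(N1 F q) = (w + 1) * 2 := by
    rw [card_N1 hF, hw]
    ring
  have h2F : (2 : F) ≠ 0 := by
    have : ι (2 : F₀) = (2 : F) := map_ofNat ι 2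
    rw [← this]
    exact (map_ne_zero ι).2 h2
  have hord : orderOf (negN1 τ hτ : ↥(N1 F q)) = 2 := by
    have := Fact.mk Nat.prime_two
    apply orderOf_eq_prime
    · apply N1_ext
      rw [N1_pow_val, negN1_val]
      show (-1 : F) ^ 2 = 1
      ring
    · intro h
      have h1 := congrArg (fun x : ↥(N1 F q) => ((x : Fˣ) : F)) h
      simp only [negN1_val] at h1
      have h3 : ((1 : ↥(N1 F q)) : Fˣ) = 1 := rfl
      rw [h3, Units.val_one] at h1
      apply h2F
      have h4 : (2 : F) = 1 - (-1) := by ring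
      rw [h4, h1, sub_self]
  rw [inndiagPSU_eq, splitClassCount_psu hF (by omega),
    detU_symm hF hn hs τ hτ ι hfix hR h2 hnl hA,
    index_pm_pow_cyclic (w + 1) hG _ hord, hnl, hw]
  congr 2
  ring

end finite

end Cfsg.Agent.Lib.Helper8.UGr
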