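import Cfsg.Agent.Lib.Helper8.UGr.Cent
import Cfsg.Agent.Lib.Helper7.AutPSL.FixedField
import Mathlib

/-!
# The correspondence between involutory graph automorphisms of `PSU_n(q)` and of `PSL_n(q)` (helper8)
-/

set_option autoImplicit false
set_option linter.unusedSectionVars false

namespace Cfsg.Agent.Lib.Helper8.UGr

open Matrix Cfsg Cfsg.Agent.AutPSLCount Cfsg.Agent.Lib.H7AutPSL Cfsg.Agent.Lib.H7GraphInv
open Cfsg.Agent.Lib.H7AutPSU Cfsg.Agent.Lib.H7AutPSp Cfsg.Agent.Lib.Helper8.GrInv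

universe u v

variable {n : ℕ} {F : Type u} [Field F] [Fintype F] {F₀ : Type v} [Field F₀] {q : ℕ}

/-- the Frobenius involution and an embedding of the field with `q` elements onto its fixed field -/
theorem exists_setup [Fintype F₀] (hF : Fintype.card F = q ^ 2) (hF₀ : Fintype.card F₀ = q) :
    ∃ (τ : RingAut F) (ι : F₀ →+* F), (∀ t, τ t = t ^ q) ∧
      (∀ t : F, τ t = t ↔ ∃ s, ι s = t) := by
  obtain ⟨τ, hτ, -, -⟩ := exists_frobAut hF
  have hchar : CharP F (ringChar F) := ringChar.charP F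
  obtain ⟨k, hp, hk⟩ := FiniteField.card F (ringChar F)
  have : Fact (ringChar F).Prime := ⟨hp⟩
  have hk' : Fintype.card F = ringChar F ^ (k : ℕ) := hk
  have hq : q = ringChar F ^ ((k : ℕ) / 2) := by
    have h1 : q ∣ ringChar F ^ (k : ℕ) := by
      rw [← hk', hF]
      exact Dvd.intro_left (q ^ 1) (by ring)
    obtain ⟨j, -, hj⟩ := (Nat.dvd_prime_pow hp).1 h1
    have h2 : ringChar F ^ (2 * j) = ringChar F ^ (k : ℕ) := by
      rw [← hk', hF, hj]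
      ring
    have h3 : 2 * j = (k : ℕ) := Nat.pow_right_injective hp.two_le h2
    rw [hj, ← h3, Nat.mul_div_cancel_left j (by norm_num)]
  obtain ⟨-, ι, hι⟩ := exists_fixed_embedding (ringChar F) k hk' τ 2 (by norm_num)
    (frob_orderOf hF τ hτ) F₀ (by rw [hF₀, hq])
  exact ⟨τ, ι, hτ, hι⟩

section corr

variable (hF : Fintype.card F = q ^ 2) (hn : 3 ≤ n) (hs : ¬ (n = 3 ∧ q = 2))
  (τ : RingAut F) (hτ : ∀ t, τ t = t ^ q) (ι : F₀ →+* F)
  (hfix : ∀ t : F, τ t = t ↔ ∃ s, ι s = t)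

/-- corresponding involutory graph automorphisms -/
def Corr (τ : RingAut F) (ι : F₀ →+* F) (β : MulAut (Cfsg.PSU n F q))
    (β₀ : MulAut (Matrix.ProjectiveSpecialLinearGroup (Fin n) F₀)) : Prop :=
  ∃ (g : ↥(Cfsg.GU n F q)) (A : GL (Fin n) F₀) (P : GL (Fin n) F),
    β = DhU g * PhU τ ∧ β₀ = (Dh A * Γ : MulAut (PSLn n F₀)) ∧ Rel ι τ g.1.val A.val P ∧
    (A.valᵀ = A.val ∨ A.valᵀ = -A.val) ∧ (g.1.valᵀ = g.1.val ∨ g.1.valᵀ = -g.1.val)

include hF hn hs hτ hfix in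
theorem corr_of_psu (β : MulAut (Cfsg.PSU n F q)) (hβ : Cfsg.IsGraphAutClassPSU β)
    (h2 : orderOf β = 2) : ∃ β₀, Corr τ ι β β₀ := by
  obtain ⟨g, rfl, hg⟩ := graphU_normal_form hF hn hs τ hτ β hβ h2
  have hgu := GU_mul_transpose τ hτ g
  rcases hg with hg1 | hg1
  · obtain ⟨A, P, hR, hA⟩ := exists_rel ι τ hfix (frob_sq hF τ hτ) (frob_ne_one hF τ hτ)
      (by omega) g.1 hgu 1 1 (map_one ι) (one_mul 1) (by rw [one_smul]; exact hg1)
    rw [one_smul] at hA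
    exact ⟨_, g, A, P, rfl, rfl, hR, Or.inl hA, Or.inl hg1⟩
  · obtain ⟨A, P, hR, hA⟩ := exists_rel ι τ hfix (frob_sq hF τ hτ) (frob_ne_one hF τ hτ)
      (by omega) g.1 hgu (-1) (-1) (by rw [map_neg, map_one]) (by ring)
      (by rw [neg_one_smul]; exact hg1)
    rw [neg_one_smul] at hA
    exact ⟨_, g, A, P, rfl, rfl, hR, Or.inr hA, Or.inr hg1⟩

include hF hn hs hτ hfix in
theorem corr_of_psl (β₀ : MulAut (Matrix.ProjectiveSpecialLinearGroup (Fin n) F₀))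
    (hβ : Cfsg.IsGraphAutClassPSL β₀) (h2 : orderOf β₀ = 2) :
    ∃ β : MulAut (Cfsg.PSU n F q), Corr τ ι β β₀ := by
  obtain ⟨A, rfl, hA⟩ := graph_normal_form hn β₀ hβ h2
  have hτ2 := frob_sq hF τ hτ
  have hτ1 := frob_ne_one hF τ hτ
  rcases hA with hA1 | hA1
  · obtain ⟨g, P, hgu, hgt, hR⟩ := exists_unitary_of_form ι τ hfix hτ2 hτ1 A 1 1 (map_one ι)
      (one_mul 1) 1 one_ne_zero (by rw [map_one, mul_one]) (by rw [one_smul]; exact hA1)
    rw [one_smul] at hgt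
    exact ⟨_, ⟨g, (mem_GU_iff τ q hτ g).2 hgu⟩, A, P, rfl, rfl, hR, Or.inl hA1, Or.inl hgt⟩
  · obtain ⟨x, hx⟩ : ∃ x : F, τ x ≠ x := by
      by_contra hcon
      apply hτ1
      apply RingEquiv.ext
      intro x
      by_contra hx
      exact hcon ⟨x, hx⟩
    obtain ⟨g, P, hgu, hgt, hR⟩ := exists_unitary_of_form ι τ hfix hτ2 hτ1 A (-1) (-1)
      (by rw [map_neg, map_one]) (by ring) (x - τ x)
      (fun h => hx (sub_eq_zero.1 h).symm)
      (by rw [map_sub, frob_frob hF τ hτ]; ring) (by rw [neg_one_smul]; exact hA1)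
    rw [neg_one_smul] at hgt
    exact ⟨_, ⟨g, (mem_GU_iff τ q hτ g).2 hgu⟩, A, P, rfl, rfl, hR, Or.inr hA1, Or.inr hgt⟩

include hF hn hs hτ in
theorem Corr.isGraph {β : MulAut (Cfsg.PSU n F q)}
    {β₀ : MulAut (Matrix.ProjectiveSpecialLinearGroup (Fin n) F₀)} (h : Corr τ ι β β₀) :
    Cfsg.IsGraphAutClassPSU β ∧ orderOf β = 2 ∧ Cfsg.IsGraphAutClassPSL β₀ ∧ orderOf β₀ = 2 := by
  obtain ⟨g, A, P, rfl, rfl, -, hA, hg⟩ := h
  exact ⟨graphU_isGraph hF hn τ hτ g, graphU_orderOf hF hn hs τ hτ g hg,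
    graph_isGraphAutClass hn A, graph_orderOf hn A hA⟩

include hF hn hs hτ hfix in
theorem Corr.conj_iff {β β' : MulAut (Cfsg.PSU n F q)}
    {β₀ β₀' : MulAut (Matrix.ProjectiveSpecialLinearGroup (Fin n) F₀)} (h : Corr τ ι β β₀)
    (h' : Corr τ ι β' β₀') :
    Cfsg.IsConjUnder (Cfsg.inndiagPSU n F q) β β' ↔
      Cfsg.IsConjUnder (Cfsg.inndiagPSL n F₀) β₀ β₀' := by
  obtain ⟨g, A, P, rfl, rfl, hR, -, -⟩ := h
  obtain ⟨g', A', P', rfl, rfl, hR', -, -⟩ := h'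
  exact conj_transfer hF hn hs τ hτ ι hfix hR hR'

include hF hn hs hτ hfix in
theorem Corr.cent {β : MulAut (Cfsg.PSU n F q)}
    {β₀ : MulAut (Matrix.ProjectiveSpecialLinearGroup (Fin n) F₀)} (h : Corr τ ι β β₀) :
    Nonempty (↥(Cfsg.inndiagPSU n F q ⊓ Subgroup.centralizer {β}) ≃*
      ↥(Cfsg.inndiagPSL n F₀ ⊓ Subgroup.centralizer {β₀})) := by
  obtain ⟨g, A, P, rfl, rfl, hR, -, -⟩ := h
  exact cent_transfer hF hn hs τ hτ ι hfix hR

end corr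

end Cfsg.Agent.Lib.Helper8.UGr
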